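import Mathlib
import Cfsg.Agent.Lib.Invol.Basic

/-!
A trivial intersection subgroup `M` whose non-identity elements have centralizers of odd order, with
`N(M) = M C` for the centralizer `C` of an involution in `N(M)`.
-/

namespace Cfsg.Agent.Invol.TIOdd

open Subgroup
open scoped Pointwise

variable {G : Type*} [Group G]

/-- The normalizer of `M`. -/
abbrev nrm (M : Subgroup G) : Subgroup G := Subgroup.normalizer (M : Set G)

/-- The part of the normalizer centralizing `z`. -/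
abbrev fix (M : Subgroup G) (z : G) : Subgroup G :=
  nrm M ⊓ Subgroup.centralizer ({z} : Set G)

/-- The hypotheses. -/
structure Setup (M : Subgroup G) (z : G) : Prop where
  ne_bot : M ≠ ⊥
  ti : ∀ {g x : G}, x ∈ M → g * x * g⁻¹ ∈ M → x ≠ 1 → g ∈ nrm M
  order : orderOf z = 2
  mem : z ∈ nrm M
  fac : M ⊔ fix M z = nrm M
  odd : ∀ x ∈ M, x ≠ 1 → Odd (Nat.card ↥(Subgroup.centralizer ({x} : Set G)))
  not_normal : ¬ M.Normal
  many : M.index < Nat.card {g : G // orderOf g = 2}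

theorem mem_fix {M : Subgroup G} {z c : G} : c ∈ fix M z ↔ c ∈ nrm M ∧ c * z = z * c := by
  rw [Subgroup.mem_inf, Subgroup.mem_centralizer_singleton_iff]

theorem conj_mem {M : Subgroup G} {n x : G} (hn : n ∈ nrm M) (hx : x ∈ M) : n * x * n⁻¹ ∈ M :=
  (Subgroup.mem_normalizer_iff.1 hn x).1 hx

theorem conj_mem' {M : Subgroup G} {n x : G} (hn : n ∈ nrm M) (hx : x ∈ M) : n⁻¹ * x * n ∈ M := by
  simpa using conj_mem (inv_mem hn) hx

variable [Finite G] {M : Subgroup G} {z : G}

theorem Setup.le_nrm (_h : Setup M z) : M ≤ nrm M := Subgroup.le_normalizer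

theorem Setup.zz (h : Setup M z) : z * z = 1 := mul_self_of_orderOf_two h.order

theorem Setup.z_inv (h : Setup M z) : z⁻¹ = z := inv_of_orderOf_two h.order

theorem Setup.z_ne (h : Setup M z) : z ≠ 1 := ne_one_of_orderOf_two h.order

theorem Setup.z_fix (h : Setup M z) : z ∈ fix M z := mem_fix.2 ⟨h.mem, rfl⟩

theorem Setup.not_commute (h : Setup M z) {x u : G} (hx : x ∈ M) (hx1 : x ≠ 1) (hu : orderOf u = 2) :
    u * x ≠ x * u := by
  intro e
  have h1 : orderOf u ∣ Nat.card ↥(Subgroup.centralizer ({x} : Set G)) :=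
    Subgroup.orderOf_dvd_natCard _ (Subgroup.mem_centralizer_singleton_iff.2 e)
  rw [hu] at h1
  exact Nat.not_even_iff_odd.2 (h.odd x hx hx1) (even_iff_two_dvd.2 h1)

theorem Setup.orderOf_odd (h : Setup M z) {x : G} (hx : x ∈ M) : Odd (orderOf x) := by
  by_cases hx1 : x = 1
  · simp [hx1]
  · exact (h.odd x hx hx1).of_dvd_nat
      (Subgroup.orderOf_dvd_natCard _ (Subgroup.mem_centralizer_singleton_iff.2 rfl))

theorem Setup.not_two (h : Setup M z) {x : G} (hx : x ∈ M) : orderOf x ≠ 2 := fun e => by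
  have := h.orderOf_odd hx
  rw [e] at this
  exact absurd this (by decide)

theorem Setup.inverts (h : Setup M z) {u : G} (hu : orderOf u = 2) (huN : u ∈ nrm M) {x : G}
    (hx : x ∈ M) : u * x * u⁻¹ = x⁻¹ := by
  let φ : M →* M :=
    { toFun := fun y => ⟨u * y * u⁻¹, conj_mem huN y.2⟩
      map_one' := Subtype.ext (by simp)
      map_mul' := fun a b => Subtype.ext (by simp [mul_assoc]) }
  have hfix : MonoidHom.FixedPointFree φ := by
    intro y hy
    have e : u * (y : G) * u⁻¹ = y := congrArg Subtype.val hy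
    by_contra hy1
    refine h.not_commute y.2 (fun e1 => hy1 (Subtype.ext e1)) hu ?_
    calc u * (y : G) = u * y * u⁻¹ * u := by group
      _ = _ := by rw [e]
  have hinv : Function.Involutive φ := by
    intro y
    refine Subtype.ext ?_
    show u * (u * (y : G) * u⁻¹) * u⁻¹ = y
    calc u * (u * (y : G) * u⁻¹) * u⁻¹ = (u * u) * y * (u * u)⁻¹ := by group
      _ = _ := by rw [mul_self_of_orderOf_two hu]; group
  have e := congrFun (hfix.coe_eq_inv_of_involutive hinv) ⟨x, hx⟩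
  exact congrArg Subtype.val e

theorem Setup.z_inverts (h : Setup M z) {x : G} (hx : x ∈ M) : z * x * z = x⁻¹ := by
  have := h.inverts h.order h.mem hx
  rwa [h.z_inv] at this

theorem Setup.comm (h : Setup M z) {a b : G} (ha : a ∈ M) (hb : b ∈ M) : a * b = b * a := by
  have e := h.inverts h.order h.mem (mul_mem ha hb)
  have e2 : z * (a * b) * z⁻¹ = (z * a * z⁻¹) * (z * b * z⁻¹) := by group
  rw [e2, h.inverts h.order h.mem ha, h.inverts h.order h.mem hb] at e
  calc a * b = ((a * b)⁻¹)⁻¹ := by group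
    _ = (a⁻¹ * b⁻¹)⁻¹ := by rw [e]
    _ = b * a := by group

theorem Setup.odd_card (h : Setup M z) : Odd (Nat.card M) := by
  by_contra hc
  rw [Nat.not_odd_iff_even, even_iff_two_dvd] at hc
  haveI : Fact (Nat.Prime 2) := ⟨Nat.prime_two⟩
  obtain ⟨x, hx⟩ := exists_prime_orderOf_dvd_card' (G := M) 2 hc
  exact h.not_two x.2 (by rw [Subgroup.orderOf_coe, hx])

theorem Setup.eq_one_of_fix (h : Setup M z) {x : G} (hx : x ∈ M) (hx' : x ∈ fix M z) : x = 1 := by
  by_contra hx1
  exact h.not_commute hx hx1 h.order (mem_fix.1 hx').2.symm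

theorem Setup.decomp (h : Setup M z) {n : G} (hn : n ∈ nrm M) :
    ∃ m ∈ M, ∃ c ∈ fix M z, n = m * c := by
  have h1 : ((M ⊔ fix M z : Subgroup G) : Set G) = (M : Set G) * (fix M z : Set G) :=
    Subgroup.coe_mul_of_right_le_normalizer_left M (fix M z) inf_le_left
  have h2 : n ∈ ((M ⊔ fix M z : Subgroup G) : Set G) := by rw [h.fac]; exact hn
  rw [h1] at h2
  obtain ⟨m, hm, c, hc, e⟩ := Set.mem_mul.1 h2
  exact ⟨m, hm, c, hc, e.symm⟩

theorem Setup.fix_involution (h : Setup M z) {c : G} (hc : c ∈ fix M z) (hc2 : orderOf c = 2) :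
    c = z := by
  by_contra hne
  obtain ⟨hcN, hcz⟩ := mem_fix.1 hc
  have ho : orderOf (c * z) = 2 := by
    refine orderOf_two_iff.2 ⟨?_, fun e => hne ?_⟩
    · calc c * z * (c * z) = c * (z * c) * z := by group
        _ = (c * c) * (z * z) := by rw [← hcz]; group
        _ = 1 := by rw [mul_self_of_orderOf_two hc2, h.zz, one_mul]
    · rw [eq_inv_of_mul_eq_one_left e, h.z_inv]
  obtain ⟨x, hxM, hx1⟩ : ∃ x ∈ M, x ≠ 1 := by
    by_contra h0
    push Not at h0
    exact h.ne_bot ((Subgroup.eq_bot_iff_forall _).2 h0)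
  refine h.not_commute hxM hx1 ho ?_
  have e1 := h.inverts hc2 hcN (M.inv_mem hxM)
  have e2 : z * x * z⁻¹ = x⁻¹ := h.inverts h.order h.mem hxM
  calc c * z * x = c * (z * x * z⁻¹) * c⁻¹ * (c * z) := by group
    _ = x * (c * z) := by rw [e2, e1, inv_inv]

theorem Setup.involution_mem (h : Setup M z) {u : G} (hu : orderOf u = 2) (huN : u ∈ nrm M) :
    u * z ∈ M := by
  obtain ⟨m, hm, c, hc, e⟩ := h.decomp huN
  obtain ⟨hcN, -⟩ := mem_fix.1 hc
  have h2 : c * c = m⁻¹ * (c * m⁻¹ * c⁻¹) := by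
    have e0 : m * (c * m * c⁻¹) * (c * c) = 1 := by
      rw [← mul_self_of_orderOf_two hu, e]; group
    calc c * c = (c * m * c⁻¹)⁻¹ * m⁻¹ * (m * (c * m * c⁻¹) * (c * c)) := by group
      _ = (c * m * c⁻¹)⁻¹ * m⁻¹ := by rw [e0, mul_one]
      _ = (c * m⁻¹ * c⁻¹) * m⁻¹ := by group
      _ = _ := h.comm (conj_mem hcN (inv_mem hm)) (inv_mem hm)
  have hcc : c * c = 1 := h.eq_one_of_fix
    (by rw [h2]; exact mul_mem (inv_mem hm) (conj_mem hcN (inv_mem hm))) (mul_mem hc hc)
  by_cases hc1 : c = 1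
  · rw [hc1, mul_one] at e
    exact absurd hu (h.not_two (e ▸ hm))
  · rw [e, h.fix_involution hc (orderOf_two_iff.2 ⟨hcc, hc1⟩), mul_assoc, h.zz, mul_one]
    exact hm

theorem Setup.mul_z_order (h : Setup M z) {x : G} (hx : x ∈ M) : orderOf (x * z) = 2 := by
  refine orderOf_two_iff.2 ⟨?_, fun e => ?_⟩
  · calc x * z * (x * z) = x * (z * x * z) := by group
      _ = 1 := by rw [h.z_inverts hx, mul_inv_cancel]
  · have h2 : x = z := by rw [eq_inv_of_mul_eq_one_left e, h.z_inv]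
    exact h.not_two hx (h2 ▸ h.order)

/-- The involutions of the normalizer are parametrized by `M`. -/
theorem Setup.card_involutions_nrm (h : Setup M z) :
    Nat.card {g : G // orderOf g = 2 ∧ g ∈ nrm M} = Nat.card M := by
  refine (Nat.card_congr ⟨fun x : M => (⟨x * z, h.mul_z_order x.2, mul_mem (h.le_nrm x.2) h.mem⟩ :
      {g : G // orderOf g = 2 ∧ g ∈ nrm M}), fun u => ⟨u.1 * z, h.involution_mem u.2.1 u.2.2⟩,
    fun x => Subtype.ext ?_, fun u => Subtype.ext ?_⟩).symm
  · show (x : G) * z * z = x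
    rw [mul_assoc, h.zz, mul_one]
  · show u.1 * z * z = u.1
    rw [mul_assoc, h.zz, mul_one]

/-- Every involution of the normalizer is conjugate to `z` under `M`. -/
theorem Setup.exists_conj_z (h : Setup M z) {u : G} (hu : orderOf u = 2) (huN : u ∈ nrm M) :
    ∃ x ∈ M, x * z * x⁻¹ = u := by
  have hm := h.involution_mem hu huN
  obtain ⟨k, hk⟩ := exists_pow_eq_self_of_coprime
    (show Nat.Coprime 2 (orderOf (u * z)) from Nat.coprime_two_left.2 (h.orderOf_odd hm))
  refine ⟨(u * z) ^ k, pow_mem hm k, ?_⟩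
  set y := (u * z) ^ k
  have hy : y ∈ M := pow_mem hm k
  have hyy : y * y = u * z := by
    rw [← pow_two]
    calc y ^ 2 = ((u * z) ^ 2) ^ k := by rw [← pow_mul, ← pow_mul, mul_comm]
      _ = u * z := hk
  calc y * z * y⁻¹ = y * (z * y⁻¹ * z) * z := by rw [mul_assoc y z]; simp [mul_assoc, h.zz]
    _ = (y * y) * z := by rw [h.z_inverts (inv_mem hy), inv_inv]
    _ = u := by rw [hyy, mul_assoc, h.zz, mul_one]

theorem Setup.unique_coset (h : Setup M z) {s t : G} (hs : orderOf s = 2) (ht : orderOf t = 2)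
    (hst : s⁻¹ * t ∈ M) (hsN : s ∉ nrm M) : s = t := by
  by_contra hne
  refine hsN (h.ti hst ?_ (fun e => hne (inv_mul_eq_one.1 e)))
  have e : s * (s⁻¹ * t) * s⁻¹ = (s⁻¹ * t)⁻¹ := by
    rw [mul_inv_rev, inv_inv, inv_of_orderOf_two hs, inv_of_orderOf_two ht]
    simp [← mul_assoc, mul_self_of_orderOf_two hs]
  rw [e]
  exact inv_mem hst

end Cfsg.Agent.Invol.TIOdd
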