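import Cfsg.Agent.Lib.Invol.TIOdd.Count
import Cfsg.Agent.Lib.Invol.BSW.Comb
import Cfsg.Agent.Lib.Block.ClassMul
import Cfsg.Agent.Lib.Char.Constituent
import Cfsg.Agent.Lib.Grp.GenDihedralTI

/-!
An involution not conjugate to `z` lies in a normal subgroup meeting `M` trivially.
-/

namespace Cfsg.Agent.Invol.TIOdd

open Cfsg Cfsg.Agent.Char
open scoped ComplexConjugate

universe u

variable {G : Type u} [Group G] [Finite G] {M : Subgroup G} {z : G}

theorem Setup.conj_z_of_inverts (h : Setup M z) {u x : G} (hu : orderOf u = 2) (hx : x ∈ M)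
    (hx1 : x ≠ 1) (hinv : u * x * u⁻¹ = x⁻¹) : IsConj z u := by
  have hN : u ∈ nrm M := h.ti hx (hinv ▸ inv_mem hx) hx1
  obtain ⟨y, -, e⟩ := h.exists_conj_z hu hN
  exact isConj_iff.2 ⟨y, e⟩

/-- Values on `M` of functions induced from `M`. -/
theorem Setup.ind_apply [Fintype G] (h : Setup M z) (h2 : Nat.card ↥(fix M z) = 2) (f : M → ℂ)
    {x : M} (hx : x ≠ 1) : indFun M f (x : G) = f x + f x⁻¹ := by
  classical
  haveI := Fintype.ofFinite M
  have hx' : (x : G) ≠ 1 := fun e => hx (Subtype.ext e)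
  have hval : ∀ g : G, extendByZero M f (g⁻¹ * x * g) =
      (if g ∈ M then f x else 0) + (if g ∈ nrm M ∧ g ∉ M then f x⁻¹ else 0) := by
    intro g
    by_cases hgM : g ∈ M
    · have : g⁻¹ * (x : G) * g = x := by
        rw [mul_assoc, h.comm x.2 hgM, inv_mul_cancel_left]
      rw [this, extendByZero_apply]
      simp [hgM]
    by_cases hgN : g ∈ nrm M
    · obtain ⟨m, hm, c, hc, rfl⟩ := h.decomp hgN
      have hcz : c = z := by
        rcases h.fix_eq_pair h2 hc with rfl | rfl
        · exact absurd (by rwa [mul_one]) hgM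
        · rfl
      subst hcz
      have : (m * c)⁻¹ * (x : G) * (m * c) = ((x⁻¹ : M) : G) := by
        rw [Subgroup.coe_inv, ← h.z_inverts x.2, mul_inv_rev, h.z_inv]
        calc c * m⁻¹ * (x : G) * (m * c) = c * (m⁻¹ * ((x : G) * m)) * c := by group
          _ = _ := by rw [h.comm x.2 hm, inv_mul_cancel_left]
      rw [this, extendByZero_apply]
      simp [hgM, hgN]
    · rw [extendByZero_not_mem f]
      · simp [hgM, hgN]
      · intro hm
        exact hgN (by simpa using inv_mem (h.ti (g := g⁻¹) x.2 (by simpa using hm) hx'))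
  simp only [indFun, hval, Finset.sum_add_distrib, ← Finset.sum_filter, Finset.sum_const,
    nsmul_eq_mul]
  have hA : (Finset.univ.filter fun g : G => g ∈ M).card = Nat.card M := by
    rw [Nat.card_eq_fintype_card, ← Fintype.card_subtype]
  have hH : (Finset.univ.filter fun g : G => g ∈ nrm M).card = 2 * Nat.card M := by
    rw [mul_comm, ← h2, ← h.card_nrm, Nat.card_eq_fintype_card, ← Fintype.card_subtype]
  have hB : (Finset.univ.filter fun g : G => g ∈ nrm M ∧ g ∉ M).card = Nat.card M := by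
    have h3 := Finset.card_filter_add_card_filter_not
      (s := Finset.univ.filter fun g : G => g ∈ nrm M) (fun g => g ∈ M)
    rw [Finset.filter_filter, Finset.filter_filter, hH] at h3
    have h4 : (Finset.univ.filter fun g : G => g ∈ nrm M ∧ g ∈ M) =
        Finset.univ.filter fun g : G => g ∈ M := by
      ext g; simpa using fun hg => h.le_nrm hg
    rw [h4, hA] at h3
    omega
  rw [hA, hB]
  have : (Nat.card M : ℂ) ≠ 0 := Nat.cast_ne_zero.2 Nat.card_pos.ne'
  field_simp

theorem Setup.linear_sq (h : Setup M z) (l : M →* ℂˣ) (hl : l ≠ 1) : l * l ≠ 1 := by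
  intro e
  refine hl (MonoidHom.ext fun x => ?_)
  have h1 : l x ^ 2 = 1 := by
    rw [pow_two]; exact DFunLike.congr_fun e x
  have h2 : l x ^ orderOf x = 1 := by rw [← map_pow, pow_orderOf_eq_one, map_one]
  have h3 := Nat.coprime_two_left.2 (Subgroup.orderOf_coe x ▸ h.orderOf_odd x.2)
  show l x = 1
  rw [← pow_one (l x), ← h3.gcd_eq_one]
  exact pow_gcd_eq_one.2 ⟨h1, h2⟩

/-- The key consequence of the exceptional characters. -/
theorem Setup.closure_inf_trivial (h : Setup M z) (h2 : Nat.card ↥(fix M z) = 2) {S : Set G}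
    (hS : ∀ u ∈ S, orderOf u = 2 ∧ ¬ IsConj z u) {x : G} (hxS : x ∈ Subgroup.normalClosure S)
    (hx : x ∈ M) : x = 1 := by
  classical
  haveI := Fintype.ofFinite G
  haveI := Fintype.ofFinite M
  have hcom : ∀ a b : M, a * b = b * a := fun a b => Subtype.ext (h.comm a.2 b.2)
  suffices hmain : ∀ l : M →* ℂˣ, l ⟨x, hx⟩ = 1 from
    congrArg Subtype.val (eq_one_of_forall_linear hcom hmain)
  intro l
  by_cases hl : l = 1
  · rw [hl]; rfl
  by_cases hx1 : x = 1
  · subst hx1; exact map_one l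
  let fl : M → ℂ := fun y => 1 - (l y : ℂ)
  have hgen : IsGeneralizedCharacter M fl :=
    IsGenChar.sub (IsGenChar.of_isCharacter IsChar.one)
      (IsGenChar.of_isCharacter (IsIrr.isCharacter (isIrr_linear l)))
  obtain ⟨a, ha, hexp⟩ := IsGenChar.exists_decomp (IsGenChar.ind M hgen)
  have haM : ∀ χ : IrrCharacter G, classInner fl (fun y : M => (χ : G → ℂ) y) = a χ := fun χ => by
    rw [← ha, classInner_indFun M _ (IsIrr.classFun χ.2)]
  have hval : ∀ y : G, indFun M fl y = ∑ χ : IrrCharacter G, (a χ : ℂ) * (χ : G → ℂ) y :=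
    fun y => by rw [hexp]; simp [Finset.sum_apply]
  have hinv : ∀ y : M, conj ((l y : ℂ)) = ((l y⁻¹ : ℂˣ) : ℂ) := fun y =>
    (IsIrr.apply_inv (isIrr_linear l) y).symm
  have hrestr : ∀ y : M, indFun M fl (y : G) = 2 - (l y : ℂ) - (l y⁻¹ : ℂ) := by
    intro y
    by_cases hy : y = 1
    · subst hy
      rw [Subgroup.coe_one, indFun_one_eq]
      simp only [fl, inv_one, map_one, Units.val_one]
      ring
    · rw [h.ind_apply h2 fl hy]
      simp only [fl]
      ring
  let one : IrrCharacter G := ⟨_, isIrr_one⟩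
  have hq0 : (Nat.card M : ℂ) ≠ 0 := Nat.cast_ne_zero.2 Nat.card_pos.ne'
  have hone : a one = 1 := by
    have h' : classInner fl (fun y : M => (one : G → ℂ) y) = 1 := by
      simp only [fl, one, classInner, map_one, mul_one, Finset.sum_sub_distrib,
        linear_sum l hl, sub_zero, Finset.sum_const, Finset.card_univ, nsmul_eq_mul]
      rw [← Nat.card_eq_fintype_card, inv_mul_cancel₀ hq0]
    rw [haM] at h'
    exact_mod_cast h'
  have hnorm : ∑ χ : IrrCharacter G, a χ * a χ = 3 := by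
    have h1 : classInner (indFun M fl) (indFun M fl) = ∑ χ : IrrCharacter G, (a χ : ℂ) * (a χ : ℂ) := by
      conv_lhs => rw [hexp]
      rw [classInner_sum_sum]
      exact Finset.sum_congr rfl fun χ _ => by rw [map_intCast]
    have h3 : classInner (indFun M fl) (indFun M fl) = 3 := by
      rw [classInner_indFun M fl (indFun_classFun M fl)]
      simp only [classInner, hrestr, fl]
      have e : ∀ y : M, (1 - (l y : ℂ)) * conj (2 - (l y : ℂ) - (l y⁻¹ : ℂ)) =
          3 - ((l⁻¹ : M →* ℂˣ) y : ℂ) - 3 * (l y : ℂ) + ((l * l) y : ℂ) := by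
        intro y
        have hone' : (l y : ℂ) * (l y⁻¹ : ℂ) = 1 := by
          rw [← Units.val_mul, ← map_mul, mul_inv_cancel, map_one, Units.val_one]
        simp only [map_sub, map_ofNat, hinv, inv_inv, MonoidHom.inv_apply, ← map_inv,
          MonoidHom.mul_apply, Units.val_mul]
        linear_combination hone'
      rw [Finset.sum_congr rfl fun y _ => e y]
      simp only [Finset.sum_add_distrib, Finset.sum_sub_distrib, ← Finset.mul_sum,
        linear_sum l hl, linear_sum _ (show (l⁻¹ : M →* ℂˣ) ≠ 1 from fun e' => hl (MonoidHom.ext fun y => inv_eq_one.1 (DFunLike.congr_fun e' y))), linear_sum _ (h.linear_sq l hl),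
        Finset.sum_const, Finset.card_univ, nsmul_eq_mul]
      rw [← Nat.card_eq_fintype_card]
      field_simp
      ring
    rw [h3] at h1
    exact_mod_cast h1.symm
  choose dd hdd0 hdd using fun χ : IrrCharacter G => IsIrr.one_eq_pos χ.2
  have hdeg : ∑ χ : IrrCharacter G, a χ * dd χ = 0 := by
    have h' := hval 1
    rw [indFun_one_eq] at h'
    simp only [hdd, fl, map_one, Units.val_one, sub_self, mul_zero] at h'
    have : ((∑ χ : IrrCharacter G, a χ * dd χ : ℤ) : ℂ) = 0 := by push_cast; exact h'.symm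
    exact_mod_cast this
  let ι := {χ : IrrCharacter G // χ ≠ one}
  have hrest : ∀ {R : Type} [AddCommGroup R] (f : IrrCharacter G → R),
      ∑ χ : ι, f χ.1 = (∑ χ, f χ) - f one := by
    intro R _ f
    rw [← Finset.sum_erase_eq_sub (Finset.mem_univ one)]
    exact (Finset.sum_subtype _ (fun χ => by simp) f).symm
  obtain ⟨χ₁, χ₂, hne, hs1, hs2, hsupp⟩ := BSW.two_support
    (f := fun χ : ι => a χ.1) (by rw [hrest (fun χ => a χ * a χ), hnorm, hone]; norm_num)
  have hsum3 : ∀ g : IrrCharacter G → ℂ,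
      ∑ χ, (a χ : ℂ) * g χ = g one + (a χ₁.1 : ℂ) * g χ₁.1 + (a χ₂.1 : ℂ) * g χ₂.1 := by
    intro g
    have h' := hrest (fun χ => (a χ : ℂ) * g χ)
    rw [BSW.sum_two hne (fun w h1 h2' => by rw [hsupp w h1 h2']; simp), hone] at h'
    push_cast at h'
    linear_combination -h'
  have hker : ∀ u ∈ S, ∀ χ : IrrCharacter G, a χ ≠ 0 → (χ : G → ℂ) u = (χ : G → ℂ) 1 := by
    intro u hu χ hχ
    obtain ⟨huo, huz⟩ := hS u hu
    have hu2 : u * u = 1 := mul_self_of_orderOf_two huo
    choose vv hvv using fun χ : IrrCharacter G => Grp.GenDihedral.int_value χ.2 hu2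
    have hz0 : indFun M fl u = 0 := by
      refine indFun_eq_zero_of_not_conj M fl fun y hy => ?_
      refine (h.not_two hy ?_).elim
      have := orderOf_conj_eq y⁻¹ u
      rw [inv_inv] at this
      rw [this, huo]
    have e1 := hdeg
    have e2 : 1 + (a χ₁.1 : ℂ) * vv χ₁.1 + (a χ₂.1 : ℂ) * vv χ₂.1 = 0 := by
      rw [← hvv, ← hvv]
      have h' := hval u
      rw [hz0, hsum3 (fun χ => (χ : G → ℂ) u)] at h'
      exact h'.symm
    have e1' : 1 + (a χ₁.1 : ℂ) * dd χ₁.1 + (a χ₂.1 : ℂ) * dd χ₂.1 = 0 := by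
      have h' : ∑ χ : IrrCharacter G, (a χ : ℂ) * (dd χ : ℂ) = 0 := by exact_mod_cast hdeg
      rw [hsum3 (fun χ => (dd χ : ℂ))] at h'
      have hd1 : (dd one : ℂ) = 1 := (hdd one).symm
      rw [hd1] at h'
      exact h'
    have e3 : 1 + (a χ₁.1 : ℂ) * ((vv χ₁.1 : ℂ) * vv χ₁.1 / dd χ₁.1) +
        (a χ₂.1 : ℂ) * ((vv χ₂.1 : ℂ) * vv χ₂.1 / dd χ₂.1) = 0 := by
      have h' := Block.sum_classFun_mul_conj (indFun_classFun M fl) u u
      have hzero : ∀ g : G, indFun M fl (u * (g * u * g⁻¹)) = 0 := by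
        intro g
        by_cases hone1 : u * (g * u * g⁻¹) = 1
        · rw [hone1, indFun_one_eq]
          simp [fl]
        refine indFun_eq_zero_of_not_conj M fl fun y hy => (huz ?_).elim
        have ho : orderOf (y⁻¹ * u * y) = 2 := by
          have := orderOf_conj_eq y⁻¹ u
          rw [inv_inv] at this
          rw [this, huo]
        have hi : (y⁻¹ * u * y) * (y⁻¹ * (u * (g * u * g⁻¹)) * y) * (y⁻¹ * u * y)⁻¹ =
            (y⁻¹ * (u * (g * u * g⁻¹)) * y)⁻¹ := by
          have hv : (g * u * g⁻¹)⁻¹ = g * u * g⁻¹ := by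
            rw [mul_inv_rev, mul_inv_rev, inv_inv, inv_of_orderOf_two huo, mul_assoc]
          calc _ = y⁻¹ * ((u * u) * (g * u * g⁻¹) * u⁻¹) * y := by group
            _ = y⁻¹ * ((g * u * g⁻¹)⁻¹ * u⁻¹) * y := by rw [hu2, one_mul, hv]
            _ = _ := by group
        have hc := h.conj_z_of_inverts ho hy (fun e => hone1 (by
          have := congrArg (fun w => y * w * y⁻¹) e
          simpa [mul_assoc] using this)) hi
        exact hc.trans (isConj_iff.2 ⟨y, by group⟩)
      rw [Finset.sum_eq_zero (fun g _ => hzero g), mul_zero] at h'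
      simp only [ha, mul_assoc, mul_div_assoc] at h'
      rw [hsum3 (fun χ => (χ : G → ℂ) u * ((χ : G → ℂ) u / (χ : G → ℂ) 1))] at h'
      simp only [hvv, hdd, ← mul_div_assoc] at h'
      have h1' : (one : G → ℂ) u = 1 := rfl
      have hv1 : (vv one : ℂ) = 1 := (hvv one).symm.trans h1'
      have hd1 : (dd one : ℂ) = 1 := (hdd one).symm
      rw [hv1, hd1] at h'
      simp only [mul_one, div_one] at h'
      rw [← mul_div_assoc, ← mul_div_assoc]
      exact h'.symm
    have key : vv χ₁.1 = dd χ₁.1 ∧ vv χ₂.1 = dd χ₂.1 := by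
      have hd1 : (dd χ₁.1 : ℂ) ≠ 0 := Nat.cast_ne_zero.2 (hdd0 _).ne'
      have hd2 : (dd χ₂.1 : ℂ) ≠ 0 := Nat.cast_ne_zero.2 (hdd0 _).ne'
      have ha1 : (a χ₁.1 : ℂ) ^ 2 = 1 := by rcases hs1 with e | e <;> simp [e]
      have ha2 : (a χ₂.1 : ℂ) ^ 2 = 1 := by rcases hs2 with e | e <;> simp [e]
      set A := (a χ₁.1 : ℂ)
      set B := (a χ₂.1 : ℂ)
      set D := (dd χ₁.1 : ℂ)
      set E := (dd χ₂.1 : ℂ)
      set U := (vv χ₁.1 : ℂ)
      set W := (vv χ₂.1 : ℂ)
      have h3 : D * E + A * U * U * E + B * W * W * D = 0 := by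
        have h4 := congrArg (fun w => w * (D * E)) e3
        simp only [zero_mul] at h4
        rw [← h4]
        field_simp
      have hA : A ≠ 0 := fun e => by rw [e] at ha1; simp at ha1
      have hB : B ≠ 0 := fun e => by rw [e] at ha2; simp at ha2
      have h5 : (A * D - A * U) ^ 2 = 0 := by
        have hBE : B * E = -1 - A * D := by linear_combination e1'
        have hBW : B * W = -1 - A * U := by linear_combination e2
        linear_combination (-(A * B)) * h3 +
          (A * D + A ^ 2 * U * U) * hBE + (A * D) * (B * W - 1 - A * U) * hBW +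
          (0 : ℂ) * ha1 + (0 : ℂ) * ha2
      have h6 : U = D := by
        have := sq_eq_zero_iff.1 h5
        exact (mul_left_cancel₀ hA (sub_eq_zero.1 this)).symm
      have h7 : W = E := by
        have : B * (W - E) = 0 := by linear_combination e2 - e1' - A * h6
        exact sub_eq_zero.1 ((mul_eq_zero.1 this).resolve_left hB)
      have h6' : ((vv χ₁.1 : ℤ) : ℂ) = ((dd χ₁.1 : ℕ) : ℂ) := h6
      have h7' : ((vv χ₂.1 : ℤ) : ℂ) = ((dd χ₂.1 : ℕ) : ℂ) := h7
      exact ⟨by exact_mod_cast h6', by exact_mod_cast h7'⟩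
    by_cases hc : χ = one
    · subst hc; rfl
    by_cases hc1 : (⟨χ, hc⟩ : ι) = χ₁
    · subst hc1; rw [hvv, hdd, key.1]; simp
    by_cases hc2 : (⟨χ, hc⟩ : ι) = χ₂
    · subst hc2; rw [hvv, hdd, key.2]; simp
    exact absurd (hsupp ⟨χ, hc⟩ hc1 hc2) hχ
  have hK : ∀ χ : IrrCharacter G, a χ ≠ 0 → (χ : G → ℂ) x = (χ : G → ℂ) 1 := by
    intro χ hχ
    haveI := charKer_normal (IsIrr.isCharacter χ.2)
    exact (mem_charKer (IsIrr.isCharacter χ.2)).1
      (Subgroup.normalClosure_le_normal (fun u hu => (mem_charKer _).2 (hker u hu χ hχ)) hxS)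
  have hfx : indFun M fl x = 0 := by
    rw [hval]
    calc ∑ χ : IrrCharacter G, (a χ : ℂ) * (χ : G → ℂ) x
        = ∑ χ : IrrCharacter G, (a χ : ℂ) * (dd χ : ℂ) := by
          refine Finset.sum_congr rfl fun χ _ => ?_
          by_cases hχ : a χ = 0
          · simp [hχ]
          · rw [hK χ hχ, hdd]
      _ = 0 := by exact_mod_cast hdeg
  have h4 := hrestr ⟨x, hx⟩
  rw [hfx] at h4
  have h5 : (l ⟨x, hx⟩ : ℂ) * (l (⟨x, hx⟩⁻¹) : ℂ) = 1 := by
    rw [← Units.val_mul, ← map_mul, mul_inv_cancel, map_one, Units.val_one]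
  have h6 : ((l ⟨x, hx⟩ : ℂ) - 1) ^ 2 = 0 := by linear_combination (l ⟨x, hx⟩ : ℂ) * h4 + h5 * (-1 : ℂ)
  exact Units.ext (by rw [Units.val_one]; exact sub_eq_zero.1 (sq_eq_zero_iff.1 h6))

end Cfsg.Agent.Invol.TIOdd
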