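import Cfsg.Agent.Lib.Invol.TIOdd.Pairs

/-!
The orders of the group and of the centralizer of `z`.
-/

namespace Cfsg.Agent.Invol.TIOdd

open Subgroup
open scoped Pointwise

variable {G : Type*} [Group G] [Finite G] {M : Subgroup G} {z : G}

/-- The involutions outside the normalizer that commute with `z`. -/
abbrev Outer (M : Subgroup G) (z : G) : Type _ :=
  {t : G // orderOf t = 2 ∧ t ∉ nrm M ∧ t * z = z * t}

theorem Setup.card_nrm (h : Setup M z) :
    Nat.card ↥(nrm M) = Nat.card M * Nat.card ↥(fix M z) := by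
  rw [← Nat.card_prod]
  refine (Nat.card_eq_of_bijective
    (fun p : M × fix M z => (⟨p.1 * p.2, mul_mem (h.le_nrm p.1.2) (mem_fix.1 p.2.2).1⟩ : nrm M))
    ⟨?_, ?_⟩).symm
  · rintro ⟨m, c⟩ ⟨n, d⟩ e
    have e1 : (m : G) * c = n * d := congrArg Subtype.val e
    have e2 : (n : G)⁻¹ * m = d * (c : G)⁻¹ := by
      calc (n : G)⁻¹ * m = (n : G)⁻¹ * (m * c) * (c : G)⁻¹ := by group
        _ = _ := by rw [e1]; group
    have e3 : (n : G)⁻¹ * m = 1 := h.eq_one_of_fix (mul_mem (inv_mem n.2) m.2)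
      (e2 ▸ mul_mem d.2 (inv_mem c.2))
    refine Prod.ext (Subtype.ext (inv_mul_eq_one.1 e3).symm) (Subtype.ext ?_)
    rw [e3] at e2
    exact (mul_inv_eq_one.1 e2.symm).symm
  · rintro ⟨n, hn⟩
    obtain ⟨m, hm, c, hc, rfl⟩ := h.decomp hn
    exact ⟨(⟨m, hm⟩, ⟨c, hc⟩), rfl⟩

theorem Setup.card_cent (h : Setup M z) :
    Nat.card ↥(Subgroup.centralizer ({z} : Set G)) = Nat.card ↥(fix M z) + Nat.card (Outer M z) := by
  classical
  rw [← Nat.card_sum]
  refine (Nat.card_eq_of_bijective (Sum.elim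
    (fun c : fix M z => (⟨c, (Subgroup.mem_inf.1 c.2).2⟩ : Subgroup.centralizer ({z} : Set G)))
    (fun t : Outer M z => ⟨t.1, Subgroup.mem_centralizer_singleton_iff.2 t.2.2.2⟩)) ⟨?_, ?_⟩).symm
  · rintro (c | t) (d | u) e <;>
      simp only [Sum.elim_inl, Sum.elim_inr, Subtype.mk.injEq] at e
    · exact congrArg Sum.inl (Subtype.ext e)
    · exact (u.2.2.1 (e ▸ (mem_fix.1 c.2).1)).elim
    · exact (t.2.2.1 (e.symm ▸ (mem_fix.1 d.2).1)).elim
    · exact congrArg Sum.inr (Subtype.ext e)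
  · rintro ⟨g, hg⟩
    have hg' := Subgroup.mem_centralizer_singleton_iff.1 hg
    by_cases hgN : g ∈ nrm M
    · exact ⟨Sum.inl ⟨g, mem_fix.2 ⟨hgN, hg'⟩⟩, rfl⟩
    · exact ⟨Sum.inr ⟨g, h.involution_of_outside hg' hgN, hgN, hg'⟩, rfl⟩

theorem Setup.card_outside (h : Setup M z) :
    Nat.card {g : G // orderOf g = 2 ∧ g ∉ nrm M} = Nat.card M * Nat.card (Outer M z) := by
  rw [← Nat.card_prod]
  refine (Nat.card_eq_of_bijective (fun p : M × Outer M z =>
    (⟨p.1 * p.2.1 * (p.1 : G)⁻¹, by rw [orderOf_conj_eq, p.2.2.1], fun e => p.2.2.2.1 (by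
      have := mul_mem (mul_mem (h.le_nrm (inv_mem p.1.2)) e) (h.le_nrm p.1.2)
      simpa [mul_assoc] using this)⟩ : {g : G // orderOf g = 2 ∧ g ∉ nrm M})) ⟨?_, ?_⟩).symm
  · rintro ⟨x, t, ht, htN, htz⟩ ⟨y, s, hs, hsN, hsz⟩ e
    have e1 : (x : G) * t * (x : G)⁻¹ = y * s * (y : G)⁻¹ := congrArg Subtype.val e
    set w := (y : G)⁻¹ * x with hw
    have hwM : w ∈ M := mul_mem (inv_mem y.2) x.2
    have hst : w * t * w⁻¹ = s := by
      calc w * t * w⁻¹ = (y : G)⁻¹ * ((x : G) * t * (x : G)⁻¹) * y := by rw [hw]; group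
        _ = s := by rw [e1]; group
    have hd : orderOf (w⁻¹ * z * w) = 2 := by
      have := orderOf_conj_eq w⁻¹ z
      rw [inv_inv] at this
      rw [this, h.order]
    have hdN : w⁻¹ * z * w ∈ nrm M :=
      mul_mem (mul_mem (h.le_nrm (inv_mem hwM)) h.mem) (h.le_nrm hwM)
    have htd : t * (w⁻¹ * z * w) * t ∈ nrm M := by
      have e2 : t * (w⁻¹ * z * w) * t = w⁻¹ * (s * z * s) * w := by rw [← hst]; group
      rw [e2, hsz, mul_assoc z, mul_self_of_orderOf_two hs, mul_one]
      exact hdN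
    have htz' : t * z * t ∈ nrm M := by
      rw [htz, mul_assoc, mul_self_of_orderOf_two ht, mul_one]
      exact h.mem
    have hz' := h.fix_involution (mem_fix.2 ⟨hdN, h.stab_comm ht htN hdN htd h.mem htz'⟩) hd
    have hw1 : w = 1 := h.eq_one_of_fix hwM (mem_fix.2 ⟨h.le_nrm hwM, by
      calc w * z = w * (w⁻¹ * z * w) := by rw [hz']
        _ = z * w := by group⟩)
    have hxy : x = y := Subtype.ext (inv_mul_eq_one.1 hw1).symm
    subst hxy
    exact Prod.ext rfl (Subtype.ext (mul_left_cancel (mul_right_cancel e1)))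
  · rintro ⟨u, hu, huN⟩
    obtain ⟨x, hx, h1, h2, h3⟩ := h.exists_conj_commute hu huN
    exact ⟨(⟨x, hx⟩, ⟨_, h1, h2, h3⟩), Subtype.ext (by group)⟩

theorem Setup.card_group (h : Setup M z) :
    Nat.card G = Nat.card ↥(nrm M) + Nat.card {g : G // orderOf g = 2 ∧ g ∉ nrm M} * Nat.card M := by
  classical
  rw [← Nat.card_prod, ← Nat.card_sum]
  refine (Nat.card_eq_of_bijective (Sum.elim (fun n : nrm M => (n : G))
    (fun p : {g : G // orderOf g = 2 ∧ g ∉ nrm M} × M => p.1.1 * p.2)) ⟨?_, ?_⟩).symm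
  · rintro (n | ⟨t, x⟩) (m | ⟨s, y⟩) e <;> simp only [Sum.elim_inl, Sum.elim_inr] at e
    · exact congrArg Sum.inl (Subtype.ext e)
    · refine (s.2.2 ?_).elim
      have := mul_mem n.2 (inv_mem (h.le_nrm y.2))
      rwa [e, mul_inv_cancel_right] at this
    · refine (t.2.2 ?_).elim
      have := mul_mem m.2 (inv_mem (h.le_nrm x.2))
      rwa [← e, mul_inv_cancel_right] at this
    · have hst : t.1⁻¹ * s.1 = (x : G) * (y : G)⁻¹ := by
        calc t.1⁻¹ * s.1 = t.1⁻¹ * (s.1 * y) * (y : G)⁻¹ := by group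
          _ = _ := by rw [← e]; group
      have hts : t = s := Subtype.ext
        (h.unique_coset t.2.1 s.2.1 (hst ▸ mul_mem x.2 (inv_mem y.2)) t.2.2)
      subst hts
      rw [mul_left_cancel_iff] at e
      exact congrArg Sum.inr (Prod.ext rfl (Subtype.ext e))
  · intro g
    by_cases hg : g ∈ nrm M
    · exact ⟨Sum.inl ⟨g, hg⟩, rfl⟩
    · obtain ⟨t, ht, htg, htN⟩ := h.exists_involution hg
      exact ⟨Sum.inr (⟨t, ht, htN⟩, ⟨_, htg⟩), by simp⟩

theorem Setup.card_group' (h : Setup M z) :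
    Nat.card G = Nat.card M * Nat.card ↥(fix M z) +
      Nat.card M * Nat.card M * Nat.card (Outer M z) := by
  rw [h.card_group, h.card_nrm, h.card_outside]
  ring

theorem Setup.card_involutions (h : Setup M z) :
    Nat.card {g : G // orderOf g = 2} = Nat.card M + Nat.card M * Nat.card (Outer M z) := by
  rw [h.card_split, h.card_outside]

theorem Setup.two_le_fix (h : Setup M z) : 2 ≤ Nat.card ↥(fix M z) := by
  haveI : Nontrivial ↥(fix M z) :=
    ⟨⟨⟨z, h.z_fix⟩, 1, fun e => h.z_ne (congrArg Subtype.val e)⟩⟩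
  exact Finite.one_lt_card

theorem Setup.even_fix (h : Setup M z) : Even (Nat.card ↥(fix M z)) := by
  have := Subgroup.orderOf_dvd_natCard _ h.z_fix
  rw [h.order] at this
  exact even_iff_two_dvd.2 this

theorem Setup.fix_eq_pair (h : Setup M z) (h2 : Nat.card ↥(fix M z) = 2) {c : G} (hc : c ∈ fix M z) :
    c = 1 ∨ c = z := by
  by_cases hc1 : c = 1
  · exact .inl hc1
  refine .inr (h.fix_involution hc ?_)
  have h3 := Subgroup.orderOf_dvd_natCard _ hc
  rw [h2] at h3
  exact ((Nat.dvd_prime Nat.prime_two).1 h3).resolve_left (mt orderOf_eq_one_iff.1 hc1)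

/-- If `fix M z` has order more than two there is a single orbit outside. -/
theorem Setup.card_outer (h : Setup M z) (h2 : Nat.card ↥(fix M z) ≠ 2) :
    Nat.card (Outer M z) = Nat.card ↥(fix M z) := by
  classical
  obtain ⟨t, ht, htN, htz⟩ := h.exists_outside
  have hinv : ∀ c ∈ fix M z, t * c * t = c⁻¹ := fun c hc => h.inverts_fix ht htN htz hc
  have hN : ∀ c ∈ fix M z, t * c ∉ nrm M := fun c hc e =>
    htN (by simpa using mul_mem e (inv_mem (mem_fix.1 hc).1))
  refine (Nat.card_eq_of_bijective (fun c : fix M z => (⟨t * c, orderOf_two_iff.2 ⟨?_, fun e =>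
    hN c c.2 (by rw [e]; exact one_mem _)⟩, hN c c.2, ?_⟩ : Outer M z)) ⟨?_, ?_⟩).symm
  · rw [← mul_assoc, hinv c c.2, inv_mul_cancel]
  · exact ((show Commute t z from htz).mul_left (show Commute (c : G) z from (mem_fix.1 c.2).2)).eq
  · intro c d e
    exact Subtype.ext (mul_left_cancel (congrArg Subtype.val e))
  · rintro ⟨u, hu, huN, huz⟩
    have hgz : t * u * z = z * (t * u) :=
      ((show Commute t z from htz).mul_left (show Commute u z from huz)).eq
    by_cases hgN : t * u ∈ nrm M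
    · exact ⟨⟨t * u, mem_fix.2 ⟨hgN, hgz⟩⟩, Subtype.ext (by
        show t * (t * u) = u
        rw [← mul_assoc, mul_self_of_orderOf_two ht, one_mul])⟩
    exfalso
    refine h2 (le_antisymm ?_ h.two_le_fix)
    have hsq : ∀ c ∈ fix M z, c * c = 1 := by
      intro c hc
      have e1 := h.inverts_fix (h.involution_of_outside hgz hgN) hgN hgz hc
      have e2 : t * u * c * (t * u) = c * (t * u * (t * u)) := by
        have e3 : t * u * c = c * (t * u) := by
          calc t * u * c = t * (u * c * u) * u := by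
                rw [← mul_assoc, ← mul_assoc, mul_assoc (t * u * c),
                  mul_self_of_orderOf_two hu, mul_one]
            _ = t * c⁻¹ * t * (t * u) := by
                rw [h.inverts_fix hu huN huz hc]
                simp [mul_assoc, ← mul_assoc t t, mul_self_of_orderOf_two ht]
            _ = _ := by rw [hinv _ (inv_mem hc), inv_inv]
        rw [e3, mul_assoc]
      rw [e1, mul_self_of_orderOf_two (h.involution_of_outside hgz hgN), mul_one] at e2
      exact inv_eq_iff_mul_eq_one.1 e2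
    have hpair : ∀ c : fix M z, c = 1 ∨ c = ⟨z, h.z_fix⟩ := fun c => by
      by_cases hc1 : (c : G) = 1
      · exact .inl (Subtype.ext hc1)
      · exact .inr (Subtype.ext (h.fix_involution c.2 (orderOf_two_iff.2 ⟨hsq c c.2, hc1⟩)))
    haveI := Fintype.ofFinite ↥(fix M z)
    rw [Nat.card_eq_fintype_card]
    refine le_trans (Finset.card_le_card (s := Finset.univ) (t := {1, ⟨z, h.z_fix⟩}) fun c _ => ?_)
      Finset.card_le_two
    simpa using hpair c

end Cfsg.Agent.Invol.TIOdd
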