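import Cfsg.Agent.Lib.Invol.TIOdd.Zassenhaus

/-!
The single-orbit case gives `PGL(2, F)` or `PSL(2, F)`.
-/

namespace Cfsg.Agent.Invol.TIOdd

open Subgroup MulAction
open scoped Pointwise

universe u

variable {G : Type u} [Group G] [Finite G] {M : Subgroup G} {z : G}

/-- The conjugation orbit of a non-identity element of `M`. -/
theorem Setup.orbit_injective (h : Setup M z) {x : G} (hx : x ∈ M) (hx1 : x ≠ 1) :
    Function.Injective fun c : fix M z => (c : G) * x * (c : G)⁻¹ := by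
  intro c d e
  by_contra hne
  refine hx1 (h.fpf (mul_mem (inv_mem d.2) c.2) (fun e1 => hne
    (Subtype.ext (inv_mul_eq_one.1 e1).symm)) hx ?_)
  have e' : (c : G) * x * (c : G)⁻¹ = d * x * (d : G)⁻¹ := e
  calc (d : G)⁻¹ * c * x = (d : G)⁻¹ * (c * x * (c : G)⁻¹) * c := by group
    _ = _ := by rw [e']; group

theorem Setup.elementary (h : Setup M z)
    (ha : Nat.card M - 1 ≤ 2 * Nat.card ↥(fix M z)) (hle : Nat.card ↥(fix M z) ≤ Nat.card M - 1)
    (heq : Nat.card ↥(fix M z) = Nat.card M - 1 ∨ 2 * Nat.card ↥(fix M z) = Nat.card M - 1) :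
    ∃ p : ℕ, p.Prime ∧ p ∣ Nat.card M ∧ Cfsg.IsElementaryAbelian p M := by
  classical
  have hq1 : 1 < Nat.card M := (Subgroup.one_lt_card_iff_ne_bot M).2 h.ne_bot
  obtain ⟨p, hp, hpq⟩ := Nat.exists_prime_and_dvd (show Nat.card M ≠ 1 by omega)
  haveI : Fact p.Prime := ⟨hp⟩
  obtain ⟨⟨x, hx⟩, hxo⟩ := exists_prime_orderOf_dvd_card' (G := M) p hpq
  rw [← Subgroup.orderOf_coe] at hxo
  have hx1 : x ≠ 1 := fun e => hp.ne_one (by subst e; rw [← hxo]; exact orderOf_one)
  let P : Subgroup M :=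
    { carrier := {v | v ^ p = 1}
      one_mem' := one_pow p
      mul_mem' := fun {a b} hA hB => by
        have hc : Commute a b := Subtype.ext (h.comm a.2 b.2)
        show (a * b) ^ p = 1
        rw [hc.mul_pow, hA, hB, one_mul]
      inv_mem' := fun {a} hA => by
        show a⁻¹ ^ p = 1
        rw [inv_pow, hA, inv_one] }
  have hP1 : Nat.card ↥(fix M z) + 1 ≤ Nat.card P := by
    let g : Option (fix M z) → P := fun o => o.elim 1 fun c =>
      ⟨⟨(c : G) * x * (c : G)⁻¹, conj_mem (mem_fix.1 c.2).1 hx⟩, by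
        refine Subtype.ext ?_
        show ((c : G) * x * (c : G)⁻¹) ^ p = 1
        rw [conj_pow, ← hxo, pow_orderOf_eq_one]; group⟩
    have hg : Function.Injective g := by
      rintro (_ | c) (_ | d) e
      · rfl
      · exact (hx1 (conj_eq_one_iff.1 (congrArg (fun v : P => ((v : M) : G)) e).symm)).elim
      · exact (hx1 (conj_eq_one_iff.1 (congrArg (fun v : P => ((v : M) : G)) e))).elim
      · exact congrArg some (h.orbit_injective hx hx1 (congrArg (fun v : P => ((v : M) : G)) e))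
    have := Nat.card_le_card_of_injective g hg
    rwa [Finite.card_option] at this
  refine ⟨p, hp, hpq, ⟨⟨fun a b => Subtype.ext (h.comm a.2 b.2)⟩⟩, fun y hy => ?_⟩
  by_contra hy1
  have hyP : (⟨y, hy⟩ : M) ∉ P := fun e => hy1 (congrArg Subtype.val e)
  have hy0 : y ≠ 1 := fun e => hy1 (by rw [e, one_pow])
  have hP2 : Nat.card P + Nat.card ↥(fix M z) ≤ Nat.card M := by
    let g : P ⊕ fix M z → M := Sum.elim (fun v => v.1)
      (fun c => ⟨(c : G) * y * (c : G)⁻¹, conj_mem (mem_fix.1 c.2).1 hy⟩)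
    have hmem : ∀ c : fix M z, (⟨(c : G) * y * (c : G)⁻¹, conj_mem (mem_fix.1 c.2).1 hy⟩ : M) ∉ P := by
      intro c e
      refine hy1 ?_
      have e2 : ((c : G) * y * (c : G)⁻¹) ^ p = 1 := congrArg Subtype.val e
      rwa [conj_pow, conj_eq_one_iff] at e2
    have hg : Function.Injective g := by
      rintro (v | c) (w | d) e <;> simp only [g, Sum.elim_inl, Sum.elim_inr] at e
      · exact congrArg Sum.inl (Subtype.ext e)
      · exact absurd (e ▸ v.2) (hmem d)
      · exact absurd (e.symm ▸ w.2) (hmem c)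
      · exact congrArg Sum.inr (h.orbit_injective hy hy0 (congrArg Subtype.val e))
    have := Nat.card_le_card_of_injective g hg
    rwa [Nat.card_sum] at this
  have hdvd := P.card_subgroup_dvd_card
  have ha2 := h.two_le_fix
  rcases heq with e | e
  · omega
  · rw [show Nat.card P = Nat.card ↥(fix M z) + 1 by omega] at hdvd
    have h3 := Nat.dvd_sub hdvd (dvd_mul_left (Nat.card ↥(fix M z) + 1) 1)
    rw [show Nat.card M - 1 * (Nat.card ↥(fix M z) + 1) = Nat.card ↥(fix M z) by omega] at h3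
    exact absurd (Nat.le_of_dvd (by omega) h3) (by omega)

theorem charP_of_card {p : ℕ} (hp : p.Prime) (K : Type) [Field K] [Fintype K] (hpK : p ∣ Fintype.card K) :
    CharP K p := by
  obtain ⟨r, _⟩ := CharP.exists K
  obtain ⟨n, hr, hn⟩ := FiniteField.card K r
  rw [hn] at hpK
  have : p = r := (Nat.prime_dvd_prime_iff_eq hp hr).1 (hp.dvd_of_dvd_pow hpK)
  rw [this]; infer_instance

/-- There is no regular normal subgroup unless `M` has order at most three. -/
theorem Setup.no_regular (h : Setup M z) (hk : Nat.card (Outer M z) = Nat.card ↥(fix M z))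
    (hq : 4 ≤ Nat.card M) (R : Subgroup G) [R.Normal] (hR : MulAction.IsPretransitive R (G ⧸ nrm M)) :
    ∃ a : G ⧸ nrm M, MulAction.stabilizer R a ≠ ⊥ := by
  classical
  by_contra hc
  push Not at hc
  haveI := hR
  set A := ((1 : G) : G ⧸ nrm M) with hA
  have hcard : Nat.card R = Nat.card M + 1 := by
    have hb : Function.Bijective fun r : R => r • A := by
      refine ⟨fun r s e => ?_, fun p => MulAction.exists_smul_eq R A p⟩
      have h1 : s⁻¹ * r ∈ stabilizer R A := by
        rw [mem_stabilizer_iff, mul_smul, inv_smul_eq_iff]; exact e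
      rw [hc A, Subgroup.mem_bot] at h1
      exact (inv_mul_eq_one.1 h1).symm
    rw [Nat.card_eq_of_bijective _ hb, ← h.index_single hk, Subgroup.index_eq_card]
  have hRN : ∀ r ∈ R, r ∈ nrm M → r = 1 := by
    intro r hr hrN
    have h1 : (⟨r, hr⟩ : R) ∈ stabilizer R A := smul_base.2 hrN
    rw [hc A, Subgroup.mem_bot] at h1
    exact congrArg Subtype.val h1
  have hfp : ∀ r ∈ R, ∀ x ∈ M, x ≠ 1 → r * x = x * r → r = 1 := by
    intro r hr x hx hx1 e
    refine hRN r hr (h.ti hx ?_ hx1)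
    rwa [e, mul_inv_cancel_right]
  haveI : Fact (Nat.Prime 2) := ⟨Nat.prime_two⟩
  obtain ⟨r0, hr0⟩ := exists_prime_orderOf_dvd_card' (G := R) 2 (by
    rw [hcard]; exact even_iff_two_dvd.1 h.odd_card.add_one)
  rw [← Subgroup.orderOf_coe] at hr0
  let f : M → {r : R // r ≠ 1} := fun x =>
    ⟨⟨(x : G) * r0 * (x : G)⁻¹, ‹R.Normal›.conj_mem _ r0.2 _⟩, fun e =>
      ne_one_of_orderOf_two hr0 (conj_eq_one_iff.1 (congrArg Subtype.val e))⟩
  have hf : Function.Bijective f := by
    refine (Nat.bijective_iff_injective_and_card f).2 ⟨fun x y e => ?_, ?_⟩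
    · have e1 : (x : G) * r0 * (x : G)⁻¹ = y * r0 * (y : G)⁻¹ :=
        congrArg (fun v : {r : R // r ≠ 1} => ((v.1 : R) : G)) e
      by_contra hne
      refine ne_one_of_orderOf_two hr0 (hfp _ r0.2 ((y : G)⁻¹ * x) (mul_mem (inv_mem y.2) x.2)
        (fun e2 => hne (Subtype.ext (inv_mul_eq_one.1 e2).symm)) ?_)
      calc (r0 : G) * ((y : G)⁻¹ * x) = (y : G)⁻¹ * (y * r0 * (y : G)⁻¹) * x := by group
        _ = _ := by rw [← e1]; group
    · haveI := Fintype.ofFinite R
      rw [Nat.card_eq_fintype_card (α := {r : R // r ≠ 1}), Fintype.card_subtype_compl,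
        Fintype.card_subtype_eq, ← Nat.card_eq_fintype_card, hcard, Nat.add_sub_cancel]
  have hsq : ∀ r : R, r * r = 1 := by
    intro r
    by_cases hr : r = 1
    · simp [hr]
    · obtain ⟨x, hx⟩ := hf.2 ⟨r, hr⟩
      refine Subtype.ext ?_
      have e : (x : G) * r0 * (x : G)⁻¹ = r :=
        congrArg (fun v : {r : R // r ≠ 1} => ((v.1 : R) : G)) hx
      show (r : G) * r = 1
      refine mul_self_of_orderOf_two ?_
      rw [← e, orderOf_conj_eq, hr0]
  have hcomm : ∀ r s : R, r * s = s * r := fun r s => by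
    calc r * s = (r * s)⁻¹ := (inv_eq_of_mul_eq_one_right (hsq _)).symm
      _ = s * r := by rw [mul_inv_rev, inv_eq_of_mul_eq_one_right (hsq r),
        inv_eq_of_mul_eq_one_right (hsq s)]
  -- at most two elements of `R` commute with `z`
  have htwo : Nat.card {r : R // (r : G) * z = z * r} ≤ 2 := by
    by_contra hlt
    haveI := Fintype.ofFinite {r : R // (r : G) * z = z * r}
    rw [Nat.card_eq_fintype_card, not_le, Fintype.two_lt_card_iff] at hlt
    obtain ⟨a, b, c, hab, hac, hbc⟩ := hlt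
    obtain ⟨r, s, hr, hs, hrs⟩ : ∃ r s : {r : R // (r : G) * z = z * r},
        (r.1 : G) ≠ 1 ∧ (s.1 : G) ≠ 1 ∧ r ≠ s := by
      by_cases h1 : (a.1 : G) = 1
      · exact ⟨b, c, fun e => hab (Subtype.ext (Subtype.ext (h1.trans e.symm))),
          fun e => hac (Subtype.ext (Subtype.ext (h1.trans e.symm))), hbc⟩
      · by_cases h2 : (b.1 : G) = 1
        · exact ⟨a, c, h1, fun e => hbc (Subtype.ext (Subtype.ext (h2.trans e.symm))), hac⟩
        · exact ⟨a, b, h1, h2, hab⟩
    refine hrs (Subtype.ext (Subtype.ext ?_))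
    have hrN : (r.1 : G) ∉ nrm M := fun e => hr (hRN _ r.1.2 e)
    have hro : orderOf (r.1 : G) = 2 := h.involution_of_outside r.2 hrN
    have hsN : (s.1 : G) ∉ nrm M := fun e => hs (hRN _ s.1.2 e)
    have hso : orderOf (s.1 : G) = 2 := h.involution_of_outside s.2 hsN
    have hN : ∀ d ∈ fix M z, (r.1 : G) * d ∉ nrm M := fun d hd e =>
      hrN (by simpa using mul_mem e (inv_mem (mem_fix.1 hd).1))
    let g : fix M z → Outer M z := fun d => ⟨(r.1 : G) * d, h.involution_of_outside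
      ((show Commute (r.1 : G) z from r.2).mul_left (show Commute (d : G) z from (mem_fix.1 d.2).2)).eq
      (hN d d.2), hN d d.2,
      ((show Commute (r.1 : G) z from r.2).mul_left (show Commute (d : G) z from (mem_fix.1 d.2).2)).eq⟩
    have hg : Function.Bijective g := (Nat.bijective_iff_injective_and_card g).2
      ⟨fun d e he => Subtype.ext (mul_left_cancel (congrArg Subtype.val he)), hk.symm⟩
    obtain ⟨d, hd⟩ := hg.2 ⟨(s.1 : G), hso, hsN, s.2⟩
    have hd' : (r.1 : G) * d = s.1 := congrArg Subtype.val hd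
    have hd1 : (d : G) = 1 := hRN _ (by
      rw [show (d : G) = (r.1 : G)⁻¹ * s.1 by rw [← hd']; group]
      exact mul_mem (inv_mem r.1.2) s.1.2) (mem_fix.1 d.2).1
    rw [← hd', hd1, mul_one]
  let cz : R → R := fun r => ⟨z * (r : G) * z⁻¹, ‹R.Normal›.conj_mem _ r.2 _⟩
  let φ : R →* R :=
    { toFun := fun r => r * cz r
      map_one' := Subtype.ext (by simp [cz])
      map_mul' := fun r s => by
        have e : cz (r * s) = cz r * cz s := Subtype.ext (by simp only [cz, Subgroup.coe_mul]; group)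
        rw [e, mul_assoc r s, ← mul_assoc s, hcomm s, mul_assoc, ← mul_assoc r] }
  have hker : Nat.card φ.ker ≤ 2 := by
    refine le_trans (Nat.card_le_card_of_injective (fun v : φ.ker => (⟨v.1, ?_⟩ :
      {r : R // (r : G) * z = z * r})) (fun v w e => Subtype.ext (congrArg Subtype.val e :))) htwo
    have e : ((v.1 : R) : G) * (z * v.1 * z⁻¹) = 1 := congrArg Subtype.val (MonoidHom.mem_ker.1 v.2)
    have e2 : z * ((v.1 : R) : G) * z⁻¹ = v.1 := by
      have hv : ((v.1 : R) : G) * v.1 = 1 := congrArg Subtype.val (hsq v.1)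
      exact mul_left_cancel (e.trans hv.symm)
    calc ((v.1 : R) : G) * z = (z * v.1 * z⁻¹) * z := by rw [e2]
      _ = _ := by group
  have hrange : Nat.card φ.range ≤ 2 := by
    refine le_trans (Nat.card_le_card_of_injective (fun v : φ.range => (⟨v.1, ?_⟩ :
      {r : R // (r : G) * z = z * r})) (fun v w e => Subtype.ext (congrArg Subtype.val e :))) htwo
    obtain ⟨r, hr⟩ := v.2
    have hc' : z * (r : G) * z⁻¹ * r = r * (z * r * z⁻¹) :=
      congrArg Subtype.val (hcomm ⟨z * r * z⁻¹, ‹R.Normal›.conj_mem _ r.2 _⟩ r)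
    show ((v.1 : R) : G) * z = z * v.1
    rw [← hr]
    show (r : G) * (z * r * z⁻¹) * z = z * ((r : G) * (z * r * z⁻¹))
    have e3 : z * ((r : G) * (z * r * z⁻¹)) * z⁻¹ = z * r * z⁻¹ * r := by
      rw [h.z_inv]
      simp [mul_assoc, h.zz]
    calc (r : G) * (z * r * z⁻¹) * z = z * r * z⁻¹ * r * z := by rw [hc']
      _ = z * ((r : G) * (z * r * z⁻¹)) * z⁻¹ * z := by rw [e3]
      _ = _ := by group
  have h1 := Subgroup.card_eq_card_quotient_mul_card_subgroup φ.ker
  rw [Nat.card_congr (QuotientGroup.quotientKerEquivRange φ).toEquiv, hcard] at h1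
  have := Nat.mul_le_mul hrange hker
  omega

/-- The single-orbit case. -/
theorem Setup.single_orbit (h : Setup M z) (hk : Nat.card (Outer M z) = Nat.card ↥(fix M z)) :
    ∃ (F : Type) (_ : Field F) (_ : Fintype F) (p : ℕ) (_ : Fact p.Prime) (_ : CharP F p),
      Fintype.card F = Nat.card M ∧ Cfsg.IsElementaryAbelian p M ∧
        (Nonempty (G ≃* (GL (Fin 2) F ⧸ Subgroup.center (GL (Fin 2) F))) ∨
         (Fintype.card F % 4 = 1 ∧ Nonempty (G ≃* Matrix.ProjectiveSpecialLinearGroup (Fin 2) F))) := by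
  classical
  obtain ⟨t, ht, htN, htz⟩ := h.exists_outside
  obtain ⟨D, hDa, hDb, hDF, hDH⟩ := h.exists_frame hk ht htN htz
  have ha2 := h.two_le_fix
  have hn : 2 ≤ Nat.card D.F := by
    rw [hDF]
    exact (Subgroup.one_lt_card_iff_ne_bot M).2 h.ne_bot
  have hH : D.H ≠ ⊥ := by
    rw [hDH]
    intro e
    exact h.z_ne ((Subgroup.eq_bot_iff_forall _).1 e z h.z_fix)
  have hsa : t • D.a = D.b := by
    rw [hDa, hDb, MulAction.Quotient.smul_coe, smul_eq_mul, mul_one]
  have hsb : t • D.b = D.a := by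
    rw [hDa, hDb, MulAction.Quotient.smul_coe, smul_eq_mul, mul_self_of_orderOf_two ht]
  have hdvd : Nat.card ↥(fix M z) ∣ Nat.card M - 1 := by
    have := D.card_H_dvd
    rwa [hDH, hDF] at this
  by_cases hfull : Nat.card ↥(fix M z) = Nat.card M - 1
  · obtain ⟨K, iK, fK, hcard, hiso⟩ := D.iso_pgl_of_inverted hn hH (by rw [hDH, hDF]; exact hfull)
      (mul_self_of_orderOf_two ht) hsa hsb (fun c hc => by
        rw [inv_of_orderOf_two ht]
        exact h.inverts_fix ht htN htz (hDH ▸ hc))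
    obtain ⟨p, hp, hpq, hel⟩ := h.elementary (by omega) (by omega) (.inl hfull)
    rw [hDF] at hcard
    exact ⟨K, iK, fK, p, ⟨hp⟩, @charP_of_card p hp K iK fK (hcard ▸ hpq), hcard, hel, .inl hiso⟩
  have h2a : 2 * Nat.card ↥(fix M z) ≤ Nat.card M - 1 := by
    obtain ⟨l, hl⟩ := hdvd
    have hq1 : 1 < Nat.card M := (Subgroup.one_lt_card_iff_ne_bot M).2 h.ne_bot
    have hl2 : 2 ≤ l := by
      rcases l with _ | _ | l
      · omega
      · omega
      · omega
    rw [hl, mul_comm]
    exact Nat.mul_le_mul_left _ hl2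
  have hZ : Cfsg.IsZassenhausGroup G (G ⧸ nrm M) := by
    refine ⟨⟨fun {g₁ g₂} e => ?_⟩, ?_, D.free3, ?_, fun R hR hRt =>
      haveI := hR; h.no_regular hk (by omega) R hRt⟩
    · have := D.faithful hn (g := g₂⁻¹ * g₁) fun p => by rw [mul_smul, e p, inv_smul_smul]
      exact (inv_mul_eq_one.1 this).symm
    · exact MulAction.is_two_pretransitive_iff.2 fun hab hcd => D.two hab hcd
    · obtain ⟨g, hg, hg1⟩ := (Subgroup.bot_or_exists_ne_one _).resolve_left hH
      exact ⟨g, hg1, D.a, D.b, D.hab, (D.mem_H.1 hg).1, (D.mem_H.1 hg).2⟩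
  have hab : ∀ x ∈ D.F, ∀ y ∈ D.F, x * y = y * x := by
    rw [hDF]; exact fun x hx y hy => h.comm hx hy
  rcases D.cases_of_abelian hZ hab with e | ⟨e, hinv⟩
  · rw [hDH, hDF] at e
    omega
  · obtain ⟨K, iK, fK, -, hcard, hiso⟩ := D.iso_psl_of_half hn hH e hinv
    rw [hDH, hDF] at e
    rw [hDF] at hcard
    obtain ⟨p, hp, hpq, hel⟩ := h.elementary (by omega) (by omega) (.inr e)
    refine ⟨K, iK, fK, p, ⟨hp⟩, @charP_of_card p hp K iK fK (hcard ▸ hpq), hcard, hel, .inr ⟨?_, hiso⟩⟩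
    obtain ⟨b, hb⟩ := h.even_fix
    omega

end Cfsg.Agent.Invol.TIOdd
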