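import Cfsg.Agent.Lib.Invol.TIOdd.Two
import Cfsg.Agent.Lib.Invol.TIOdd.Char
import Cfsg.Agent.Lib.Invol.TIOdd.Single
import Cfsg.Agent.Lib.Invol.Dihedral
import Cfsg.Agent.Lib.Classical.SLTwoSylow
import Cfsg.Agent.Lib.Grp.Zassenhaus.Basics
import Cfsg.Agent.S1230

/-!
The multi-orbit case: `PSL(2, 2 ^ e)` or an elementary abelian normal 2-subgroup.
-/

namespace Cfsg.Agent.Invol.TIOdd

open Subgroup
open scoped Pointwise

universe u

variable {G : Type u} [Group G] [Finite G] {M : Subgroup G} {z : G}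

theorem Setup.isCyclic_of_sylow (h : Setup M z)
    (hs : ∀ (r : ℕ) [Fact r.Prime], r ≠ 2 → r ∣ Nat.card M → ∀ R : Sylow r M, IsCyclic (R : Subgroup M)) :
    IsCyclic M := by
  letI : CommGroup M := { (inferInstance : Group M) with
    mul_comm := fun a b => Subtype.ext (h.comm a.2 b.2) }
  haveI : IsZGroup M := by
    refine ⟨fun r hr R => ?_⟩
    haveI : Fact r.Prime := ⟨hr⟩
    by_cases hd : r ∣ Nat.card M
    · exact hs r (fun e => by
        subst e; exact Nat.not_even_iff_odd.2 h.odd_card (even_iff_two_dvd.2 hd)) hd R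
    · haveI : Subsingleton (R : Subgroup M) := by
        rw [← Finite.card_le_one_iff_subsingleton, Sylow.card_eq_multiplicity,
          Nat.factorization_eq_zero_of_not_dvd hd, pow_zero]
      infer_instance
  infer_instance

/-- All involutions conjugate. -/
theorem Setup.one_class (h : Setup M z) (h2 : Nat.card ↥(fix M z) = 2)
    (hall : ∀ u : G, orderOf u = 2 → IsConj z u) :
    ∃ (F : Type) (_ : Field F) (_ : Fintype F) (e : ℕ), 1 < e ∧ Fintype.card F = 2 ^ e ∧
      IsCyclic ↥M ∧ Nat.card M = 2 ^ e + 1 ∧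
      Nonempty (G ≃* Matrix.ProjectiveSpecialLinearGroup (Fin 2) F) := by
  classical
  haveI : Fact (Nat.Prime 2) := ⟨Nat.prime_two⟩
  obtain ⟨d, k, hd, hk, hH, -, hG, hi, hcls⟩ := h.exists_params h2
  have hq : Nat.card M = 2 ^ (d + 1) + 1 := by
    have e1 : Nat.card {g : G // IsConj z g} = Nat.card {g : G // orderOf g = 2} :=
      Nat.card_congr (Equiv.subtypeEquivRight fun g =>
        ⟨fun e => (orderOf_eq_of_isConj e).symm.trans h.order, hall g⟩)
    rw [e1, hi, mul_assoc] at hcls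
    have e2 := Nat.eq_of_mul_eq_mul_left (Nat.card_pos (α := M)) hcls
    have hk1 : 1 ≤ k := by
      have := Nat.pow_le_pow_right (show 0 < 2 by norm_num) hd
      omega
    have e3 : k * Nat.card M = k * (2 * k + 3) := by
      have : (2 * k + 1) * (k + 1) = 1 + k * (2 * k + 3) := by ring
      omega
    rw [Nat.eq_of_mul_eq_mul_left hk1 e3, pow_succ]
    omega
  set H := Subgroup.centralizer ({z} : Set G) with hHdef
  have hsq : ∀ g : G, g * z = z * g → g * g = 1 := fun g hg => h.sq_of_commute h2 hg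
  have hp : IsPGroup 2 H := IsPGroup.of_card hH
  obtain ⟨T, hT⟩ := hp.exists_le_sylow
  have hTnt : Nontrivial (T : Subgroup G) :=
    ⟨⟨⟨z, hT (Subgroup.mem_centralizer_singleton_iff.2 rfl)⟩, 1,
      fun e => h.z_ne (congrArg Subtype.val e)⟩⟩
  haveI := T.isPGroup'.center_nontrivial
  obtain ⟨w, hw⟩ := exists_prime_orderOf_dvd_card' (G := Subgroup.center (T : Subgroup G)) 2 (by
    obtain ⟨n, hn⟩ := IsPGroup.iff_card.1 (T.isPGroup'.to_subgroup (Subgroup.center (T : Subgroup G)))
    have := Finite.one_lt_card (α := Subgroup.center (T : Subgroup G))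
    rw [hn] at this ⊢
    rcases n with _ | n
    · simp at this
    · exact dvd_pow_self 2 (Nat.succ_ne_zero n))
  rw [← Subgroup.orderOf_coe, ← Subgroup.orderOf_coe] at hw
  have hTH : (T : Subgroup G) = H := by
    obtain ⟨g, hg⟩ := isConj_iff.1 (hall _ hw)
    refine (Subgroup.eq_of_le_of_card_ge hT ?_).symm
    refine Nat.card_le_card_of_injective (fun t : (T : Subgroup G) =>
      (⟨g⁻¹ * t * g, ?_⟩ : H)) (fun a b e => Subtype.ext (mul_left_cancel (mul_right_cancel
        (congrArg Subtype.val e))))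
    have hc : (t : G) * ((w : (T : Subgroup G)) : G) = ((w : (T : Subgroup G)) : G) * t :=
      congrArg Subtype.val (Subgroup.mem_center_iff.1 w.2 t)
    rw [← hg] at hc
    refine Subgroup.mem_centralizer_singleton_iff.2 ?_
    calc g⁻¹ * t * g * z = g⁻¹ * ((t : G) * (g * z * g⁻¹)) * g := by group
      _ = _ := by rw [hc]; group
  have hnc : ¬ IsCyclic (T : Subgroup G) := by
    intro hc
    have h1 := IsCyclic.exponent_eq_card (α := (T : Subgroup G))
    have h3 : Monoid.exponent (T : Subgroup G) ∣ 2 := by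
      refine Monoid.exponent_dvd_of_forall_pow_eq_one fun t => Subtype.ext ?_
      rw [Subgroup.coe_pow, pow_two]
      exact hsq t (Subgroup.mem_centralizer_singleton_iff.1 (show (t : G) ∈ H by rw [← hTH]; exact t.2))
    rw [h1, show Nat.card (T : Subgroup G) = Nat.card H by rw [hTH], hH] at h3
    have := Nat.le_of_dvd two_pos h3
    have := Nat.pow_le_pow_right (show 0 < 2 by norm_num) (show 2 ≤ d + 1 by omega)
    omega
  have hnn : ¬ (T : Subgroup G).Normal := by
    intro hn
    obtain ⟨⟨x, hx⟩, hx1⟩ : ∃ x : M, x ≠ 1 := by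
      haveI := (Subgroup.nontrivial_iff_ne_bot M).2 h.ne_bot
      exact exists_ne 1
    have hzT : z ∈ (T : Subgroup G) := hT (Subgroup.mem_centralizer_singleton_iff.2 rfl)
    have h1 := hn.conj_mem z hzT x
    rw [hTH] at h1
    have h3 : x * z * x⁻¹ * z = z * (x * z * x⁻¹) := Subgroup.mem_centralizer_singleton_iff.1 h1
    have e1 : x * z * x⁻¹ * z = x * x := by
      calc x * z * x⁻¹ * z = x * (z * x⁻¹ * z) := by group
        _ = _ := by rw [h.z_inverts (inv_mem hx), inv_inv]
    have e2 : z * (x * z * x⁻¹) = x⁻¹ * x⁻¹ := by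
      calc z * (x * z * x⁻¹) = (z * x * z) * x⁻¹ := by group
        _ = _ := by rw [h.z_inverts hx]
    rw [e1, e2] at h3
    have h4 : x ^ 4 = 1 := by
      calc x ^ 4 = (x * x) * (x * x) := by simp [pow_succ, mul_assoc]
        _ = (x⁻¹ * x⁻¹) * (x * x) := by rw [← h3]
        _ = 1 := by group
    refine hx1 (Subtype.ext ?_)
    have h5 : Nat.Coprime 4 (orderOf x) :=
      Nat.Coprime.pow_left 2 (Nat.coprime_two_left.2 (h.orderOf_odd hx))
    exact orderOf_eq_one_iff.1 (Nat.dvd_one.1 (h5 ▸ Nat.dvd_gcd (orderOf_dvd_of_pow_eq_one h4) dvd_rfl))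
  have hcent : ∀ u : G, orderOf u = 2 → ∀ a ∈ Subgroup.centralizer ({u} : Set G), a * a = 1 := by
    intro u hu a ha
    obtain ⟨g, rfl⟩ := isConj_iff.1 (hall u hu)
    have ha' := Subgroup.mem_centralizer_singleton_iff.1 ha
    have := hsq (g⁻¹ * a * g) (by
      calc g⁻¹ * a * g * z = g⁻¹ * (a * (g * z * g⁻¹)) * g := by group
        _ = _ := by rw [ha']; group)
    calc a * a = g * (g⁻¹ * a * g * (g⁻¹ * a * g)) * g⁻¹ := by group
      _ = 1 := by rw [this]; group
  obtain ⟨F, iF, fF, hF, ⟨e⟩⟩ := Cfsg.Agent.S1230.result T hnc hnn fun u hu => ⟨⟨⟨fun a b => by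
    have hs : ∀ c : Subgroup.centralizer ({u} : Set G), c⁻¹ = c := fun c =>
      inv_eq_of_mul_eq_one_right (Subtype.ext (hcent u hu c c.2))
    calc a * b = (a * b)⁻¹ := (hs _).symm
      _ = b * a := by rw [mul_inv_rev, hs, hs]⟩⟩, fun c hc => by rw [pow_two]; exact hcent u hu c hc⟩
  rw [show Nat.card (T : Subgroup G) = Nat.card H by rw [hTH], hH] at hF
  refine ⟨F, iF, fF, d + 1, by omega, hF, ?_, hq, ⟨e⟩⟩
  refine h.isCyclic_of_sylow fun r _ hr2 _ R => ?_
  have hrp : r.Prime := Fact.out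
  have hrF : ¬ r ∣ Fintype.card F := fun hd => hr2 ((Nat.prime_dvd_prime_iff_eq hrp Nat.prime_two).1
    (hrp.dvd_of_dvd_pow (hF ▸ hd)))
  let f : M →* Matrix.ProjectiveSpecialLinearGroup (Fin 2) F := e.toMonoidHom.comp M.subtype
  have hf : Function.Injective f := e.injective.comp M.subtype_injective
  obtain ⟨Q, hQ⟩ := (R.isPGroup'.map f).exists_le_sylow
  obtain ⟨P, rfl⟩ := Sylow.mapSurjective_surjective
    (f := QuotientGroup.mk' (Subgroup.center (Matrix.SpecialLinearGroup (Fin 2) F)))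
    (QuotientGroup.mk'_surjective _) r Q
  haveI := Classical.SLTwoSylow.isCyclic_sylow_SL hr2 hrF P
  have hPc : IsCyclic ((P : Subgroup (Matrix.SpecialLinearGroup (Fin 2) F)).map
      (QuotientGroup.mk' (Subgroup.center (Matrix.SpecialLinearGroup (Fin 2) F)))) :=
    isCyclic_of_surjective _ (MonoidHom.subgroupMap_surjective _ _)
  let g : (R : Subgroup M) →* ((P : Subgroup (Matrix.SpecialLinearGroup (Fin 2) F)).map
      (QuotientGroup.mk' (Subgroup.center (Matrix.SpecialLinearGroup (Fin 2) F)))) :=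
    { toFun := fun x => ⟨f x, hQ (Subgroup.mem_map_of_mem f x.2)⟩
      map_one' := Subtype.ext (map_one f)
      map_mul' := fun x y => Subtype.ext (map_mul f _ _) }
  exact isCyclic_of_injective g fun x y exy => Subtype.ext (hf (congrArg Subtype.val exy))

/-- An involution not conjugate to `z`. -/
theorem Setup.two_classes (h : Setup M z) (h2 : Nat.card ↥(fix M z) = 2)
    (hnot : ∃ u : G, orderOf u = 2 ∧ ¬ IsConj z u) :
    ∃ (d : ℕ) (E : Subgroup G), 1 ≤ d ∧ E.Normal ∧ Cfsg.IsElementaryAbelian 2 E ∧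
      Nat.card E = 2 ^ (2 * d) ∧ E ⊓ nrm M = ⊥ ∧ E ⊔ nrm M = ⊤ ∧
      Nonempty (↥(nrm M) ≃* DihedralGroup (2 ^ d + 1)) := by
  classical
  obtain ⟨d, k, hd, hk, hH, -, hG, hi, hcls⟩ := h.exists_params h2
  set S : Set G := {u | orderOf u = 2 ∧ ¬ IsConj z u} with hS
  set K := Subgroup.normalClosure S with hK
  haveI : K.Normal := Subgroup.normalClosure_normal
  have hKM : ∀ x ∈ K, x ∈ M → x = 1 := fun x hx hxM =>
    h.closure_inf_trivial h2 (S := S) (fun u hu => hu) hx hxM
  have hzK : ∀ u ∈ K, ¬ IsConj z u := by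
    intro u hu hc
    obtain ⟨g, rfl⟩ := isConj_iff.1 hc
    have hzK' : z ∈ K := by
      have h1 := ‹K.Normal›.conj_mem _ hu g⁻¹
      simpa [mul_assoc] using h1
    obtain ⟨⟨x, hx⟩, hx1⟩ : ∃ x : M, x ≠ 1 := by
      haveI := (Subgroup.nontrivial_iff_ne_bot M).2 h.ne_bot
      exact exists_ne 1
    have h3 : x * z * x⁻¹ * z = 1 := by
      refine hKM _ (mul_mem (‹K.Normal›.conj_mem _ hzK' x) hzK') ?_
      rw [show x * z * x⁻¹ * z = x * (z * x⁻¹ * z) by group, h.z_inverts (inv_mem hx), inv_inv]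
      exact mul_mem hx hx
    rw [show x * z * x⁻¹ * z = x * (z * x⁻¹ * z) by group, h.z_inverts (inv_mem hx), inv_inv] at h3
    by_cases hx' : x = 1
    · exact hx1 (Subtype.ext hx')
    · exact h.not_two hx (orderOf_two_iff.2 ⟨h3, hx'⟩)
  have hKN : K ⊓ nrm M = ⊥ := by
    rw [Subgroup.eq_bot_iff_forall]
    intro x hx
    obtain ⟨hxK, hxN⟩ := Subgroup.mem_inf.1 hx
    obtain ⟨m, hm, c, hc, rfl⟩ := h.decomp hxN
    rcases h.fix_eq_pair h2 hc with rfl | hcz
    · rw [mul_one] at hxK ⊢
      exact hKM m hxK hm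
    · refine absurd ?_ (hzK _ hxK)
      subst hcz
      obtain ⟨y, -, e⟩ := h.exists_conj_z (h.mul_z_order hm) hxN
      exact isConj_iff.2 ⟨y, e⟩
  have hle : Nat.card K * Nat.card ↥(nrm M) ≤ Nat.card G := by
    rw [← Nat.card_prod]
    refine Nat.card_le_card_of_injective (fun p : K × nrm M => (p.1 : G) * p.2) ?_
    rintro ⟨a, n⟩ ⟨b, m⟩ e
    have e' : (a : G) * n = b * m := e
    have h1 : (b : G)⁻¹ * a = m * (n : G)⁻¹ := by
      calc (b : G)⁻¹ * a = (b : G)⁻¹ * (a * n) * (n : G)⁻¹ := by group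
        _ = _ := by rw [e']; group
    have h3 : (b : G)⁻¹ * a ∈ K ⊓ nrm M := Subgroup.mem_inf.2
      ⟨mul_mem (inv_mem b.2) a.2, h1 ▸ mul_mem m.2 (inv_mem n.2)⟩
    rw [hKN, Subgroup.mem_bot] at h3
    have hab : a = b := Subtype.ext (inv_mul_eq_one.1 h3).symm
    subst hab
    exact Prod.ext rfl (Subtype.ext (mul_left_cancel e'))
  have hNc : Nat.card ↥(nrm M) = 2 * Nat.card M := by rw [h.card_nrm, h2, mul_comm]
  have hKle : Nat.card K ≤ 1 + k * Nat.card M := by
    rw [hNc, hG, mul_comm] at hle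
    exact Nat.le_of_mul_le_mul_left hle (Nat.mul_pos two_pos Nat.card_pos)
  -- counting involutions
  have hsplit : Nat.card {g : G // orderOf g = 2} =
      Nat.card {g : G // IsConj z g} + Nat.card {g : G // g ∈ S} := by
    rw [← Nat.card_sum]
    refine Nat.card_congr ((Equiv.sumCompl (fun u : {g : G // orderOf g = 2} => IsConj z u.1)).symm.trans
      (Equiv.sumCongr ?_ ?_))
    · exact (Equiv.subtypeSubtypeEquivSubtypeInter _ (fun g => IsConj z g)).trans
        (Equiv.subtypeEquivRight fun g => ⟨fun e => e.2,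
          fun e => ⟨(orderOf_eq_of_isConj e).symm.trans h.order, e⟩⟩)
    · exact Equiv.subtypeSubtypeEquivSubtypeInter _ (fun g => ¬ IsConj z g)
  set j := Nat.card {g : G // g ∈ S} with hj
  set c := Nat.card {g : G // IsConj z g} with hc'
  set q := Nat.card M with hqdef
  have hSK : j + 1 ≤ Nat.card K := by
    have hinj : Function.Injective (fun o : Option {g : G // g ∈ S} =>
        o.elim (1 : K) fun u => ⟨u.1, Subgroup.subset_normalClosure u.2⟩) := by
      rintro (_ | u) (_ | v) e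
      · rfl
      · exact absurd (congrArg Subtype.val e).symm (ne_one_of_orderOf_two v.2.1)
      · exact absurd (congrArg Subtype.val e) (ne_one_of_orderOf_two u.2.1)
      · exact congrArg some (Subtype.ext (congrArg Subtype.val e :))
    have := Nat.card_le_card_of_injective _ hinj
    rwa [Finite.card_option] at this
  have hjpos : 0 < j := by
    obtain ⟨u, hu⟩ := hnot
    haveI : Nonempty {g : G // g ∈ S} := ⟨⟨u, hu⟩⟩
    exact Nat.card_pos
  have hjeq : j * (k + 1) + k * q * q = k * q * (2 * k + 3) := by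
    rw [hi] at hsplit
    nlinarith [congrArg (· * (k + 1)) hsplit, hcls]
  have hqd : q = k + 2 ∧ j = k * q := by
    have hcop : Nat.Coprime (k + 1) (k * q) := by
      refine Nat.Coprime.mul_right ?_ ?_
      · simp
      · rw [hk]
        exact Nat.Coprime.pow_left d (Nat.coprime_two_left.2 h.odd_card)
    have hlt : q < 2 * k + 3 := by
      by_contra hge
      have := Nat.mul_le_mul_left (k * q) (not_lt.1 hge)
      nlinarith
    obtain ⟨r, hr⟩ := Nat.exists_eq_add_of_le hlt.le
    have he : j * (k + 1) = k * q * r := by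
      rw [hr] at hjeq
      have : k * q * (q + r) = k * q * q + k * q * r := mul_add _ _ _
      omega
    have hdvd : k + 1 ∣ r := hcop.dvd_of_dvd_mul_left ⟨j, by rw [← he, mul_comm]⟩
    obtain ⟨l, rfl⟩ := hdvd
    have he2 : j = k * q * l := Nat.eq_of_mul_eq_mul_right (show 0 < k + 1 by omega)
      (he.trans (by ring))
    have hl : l = 1 := by
      rcases l with _ | _ | l
      · omega
      · rfl
      · exfalso
        have : j ≤ k * q := by omega
        nlinarith
    subst hl
    exact ⟨by omega, by rw [he2, mul_one]⟩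
  obtain ⟨hq, hjq⟩ := hqd
  have hKcard : Nat.card K = j + 1 := by omega
  have hexp : ∀ x : K, x * x = 1 := by
    have hbij : Function.Bijective (fun o : Option {g : G // g ∈ S} =>
        o.elim (1 : K) fun u => ⟨u.1, Subgroup.subset_normalClosure u.2⟩) := by
      refine (Nat.bijective_iff_injective_and_card _).2 ⟨?_, by rw [Finite.card_option, hKcard]⟩
      rintro (_ | u) (_ | v) e
      · rfl
      · exact absurd (congrArg Subtype.val e).symm (ne_one_of_orderOf_two v.2.1)
      · exact absurd (congrArg Subtype.val e) (ne_one_of_orderOf_two u.2.1)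
      · exact congrArg some (Subtype.ext (congrArg Subtype.val e :))
    intro x
    obtain ⟨o, rfl⟩ := hbij.2 x
    rcases o with _ | u
    · exact one_mul 1
    · exact Subtype.ext (mul_self_of_orderOf_two u.2.1)
  have hcard : Nat.card K = 2 ^ (2 * d) := by
    rw [hKcard, hjq, hq, pow_mul', ← hk]; ring
  have htop : K ⊔ nrm M = ⊤ := by
    refine Subgroup.eq_top_of_card_eq _ (le_antisymm (Subgroup.card_le_card_group _) ?_)
    have hinj : Nat.card K * Nat.card ↥(nrm M) ≤ Nat.card ↥(K ⊔ nrm M) := by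
      rw [← Nat.card_prod]
      refine Nat.card_le_card_of_injective (fun p : K × nrm M => (⟨p.1 * p.2,
        mul_mem (Subgroup.mem_sup_left p.1.2) (Subgroup.mem_sup_right p.2.2)⟩ : ↥(K ⊔ nrm M))) ?_
      rintro ⟨a, n⟩ ⟨b, m⟩ e
      have e' : (a : G) * n = b * m := congrArg Subtype.val e
      have h1 : (b : G)⁻¹ * a = m * (n : G)⁻¹ := by
        calc (b : G)⁻¹ * a = (b : G)⁻¹ * (a * n) * (n : G)⁻¹ := by group
          _ = _ := by rw [e']; group
      have h3 : (b : G)⁻¹ * a ∈ K ⊓ nrm M := Subgroup.mem_inf.2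
        ⟨mul_mem (inv_mem b.2) a.2, h1 ▸ mul_mem m.2 (inv_mem n.2)⟩
      rw [hKN, Subgroup.mem_bot] at h3
      have hab : a = b := Subtype.ext (inv_mul_eq_one.1 h3).symm
      subst hab
      exact Prod.ext rfl (Subtype.ext (mul_left_cancel e'))
    refine le_trans (le_of_eq ?_) hinj
    rw [hG, hNc, hKcard, hjq]; ring
  -- `M` is cyclic
  have hcyc : IsCyclic M := by
    haveI : Nontrivial K := Finite.one_lt_card_iff_nontrivial.1 (by omega)
    haveI : Nontrivial M := (Subgroup.nontrivial_iff_ne_bot M).2 h.ne_bot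
    have hfpf : ∀ x : M, x ≠ 1 → ∀ v : K,
        ((MulAut.conjNormal (H := K)).comp M.subtype) x v = v → v = 1 := by
      intro x hx v hv
      have hv' : (x : G) * v * (x : G)⁻¹ = v := congrArg Subtype.val hv
      have hx' : (x : G) ≠ 1 := fun e => hx (Subtype.ext e)
      have hvN : (v : G) ∈ nrm M := h.ti x.2 (by
        have : (v : G) * x * (v : G)⁻¹ = x := by
          calc (v : G) * x * (v : G)⁻¹ = (x * v * (x : G)⁻¹) * x * (v : G)⁻¹ := by rw [hv']
            _ = x := by group
        rw [this]; exact x.2) hx'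
      refine Subtype.ext ?_
      have := Subgroup.mem_inf.2 ⟨v.2, hvN⟩
      rw [hKN, Subgroup.mem_bot] at this
      exact this
    have hF := Grp.Zas.hasFpf_of_fpf_aut ((MulAut.conjNormal (H := K)).comp M.subtype) hfpf
    exact h.isCyclic_of_sylow fun r _ hr2 _ R => hF.sylow_cyclic hr2 R
  have hdih : Nonempty (↥(nrm M) ≃* DihedralGroup (2 ^ d + 1)) := by
    obtain ⟨g, hg⟩ := IsCyclic.exists_generator (α := M)
    have ho : orderOf (g : G) = q := by
      rw [Subgroup.orderOf_coe, orderOf_eq_card_of_forall_mem_zpowers hg]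
    have hqn : q = 2 ^ d + 1 := by omega
    have hga : (g : G) ^ (2 ^ d + 1) = 1 := by rw [← hqn, ← ho]; exact pow_orderOf_eq_one _
    let φ := dihedralHom (g : G) z hga h.zz (h.inverts h.order h.mem g.2)
    have hrange : φ.range = nrm M := by
      refine le_antisymm ?_ fun n hn => ?_
      · rintro _ ⟨i | i, rfl⟩ <;> obtain ⟨i, rfl⟩ := ZMod.intCast_surjective i
        · rw [dihedralHom_r]; exact h.le_nrm (zpow_mem g.2 i)
        · rw [dihedralHom_sr]; exact mul_mem h.mem (h.le_nrm (zpow_mem g.2 i))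
      · obtain ⟨m, hm, c, hc, rfl⟩ := h.decomp hn
        obtain ⟨i, hi'⟩ := hg ⟨m, hm⟩
        have hm' : (g : G) ^ i = m := congrArg Subtype.val hi'
        rcases h.fix_eq_pair h2 hc with rfl | hcz
        · exact ⟨.r (i : ZMod (2 ^ d + 1)), by rw [dihedralHom_r, hm', mul_one]⟩
        · refine ⟨.sr ((-i : ℤ) : ZMod (2 ^ d + 1)), ?_⟩
          rw [dihedralHom_sr, zpow_neg, hm', hcz]
          calc z * m⁻¹ = z * m⁻¹ * (z * z) := by rw [h.zz, mul_one]
            _ = (z * m⁻¹ * z) * z := by group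
            _ = m * z := by rw [h.z_inverts (inv_mem hm), inv_inv]
    have hinj : Function.Injective φ.rangeRestrict := by
      refine ((Nat.bijective_iff_surjective_and_card _).2 ⟨φ.rangeRestrict_surjective, ?_⟩).1
      rw [show Nat.card φ.range = Nat.card ↥(nrm M) by rw [hrange], hNc, DihedralGroup.nat_card, hqn]
    exact ⟨(MulEquiv.subgroupCongr hrange.symm).trans
      (MulEquiv.ofBijective φ.rangeRestrict ⟨hinj, φ.rangeRestrict_surjective⟩).symm⟩
  exact ⟨d, K, hd, ‹K.Normal›, ⟨⟨⟨fun a b => by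
    calc a * b = (a * b)⁻¹ := (inv_eq_of_mul_eq_one_right (hexp _)).symm
      _ = b * a := by rw [mul_inv_rev, inv_eq_of_mul_eq_one_right (hexp a),
        inv_eq_of_mul_eq_one_right (hexp b)]⟩⟩, fun a ha => by
    rw [pow_two]; exact congrArg Subtype.val (hexp ⟨a, ha⟩)⟩, hcard, hKN, htop, hdih⟩

end Cfsg.Agent.Invol.TIOdd
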