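import Cfsg.Agent.Lib.Invol.TIOdd.Basic

/-!
Every coset of `M` outside `N(M)` contains exactly one involution; the two-point stabilizers.
-/

namespace Cfsg.Agent.Invol.TIOdd

open Subgroup
open scoped Pointwise

variable {G : Type*} [Group G] [Finite G] {M : Subgroup G} {z : G}

theorem Setup.card_split (h : Setup M z) :
    Nat.card {g : G // orderOf g = 2} =
      Nat.card M + Nat.card {g : G // orderOf g = 2 ∧ g ∉ nrm M} := by
  classical
  rw [← h.card_involutions_nrm, ← Nat.card_sum]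
  exact Nat.card_congr ((Equiv.sumCompl (fun u : {g : G // orderOf g = 2} => u.1 ∈ nrm M)).symm.trans
    (Equiv.sumCongr (Equiv.subtypeSubtypeEquivSubtypeInter _ (fun g => g ∈ nrm M))
      (Equiv.subtypeSubtypeEquivSubtypeInter _ (fun g => g ∉ nrm M))))

/-- Every coset outside the normalizer contains an involution. -/
theorem Setup.exists_involution (h : Setup M z) {g : G} (hg : g ∉ nrm M) :
    ∃ t : G, orderOf t = 2 ∧ t⁻¹ * g ∈ M ∧ t ∉ nrm M := by
  classical
  by_contra hno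
  push Not at hno
  let f : {u : G // orderOf u = 2 ∧ u ∉ nrm M} ⊕ M → G ⧸ M :=
    Sum.elim (fun u => (u.1 : G ⧸ M)) (fun x => (((x : G) * g : G) : G ⧸ M))
  have hmix : ∀ (u : {u : G // orderOf u = 2 ∧ u ∉ nrm M}) (x : M),
      u.1⁻¹ * ((x : G) * g) ∈ M → False := by
    rintro ⟨u, hu, huN⟩ ⟨x, hx⟩ e
    have ho : orderOf (x⁻¹ * u * x) = 2 := by
      have := orderOf_conj_eq x⁻¹ u
      rw [inv_inv] at this
      rw [this, hu]
    have hN' : x⁻¹ * u * x ∉ nrm M := fun hN' => huN (by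
      have h1 := mul_mem (mul_mem (h.le_nrm hx) hN') (h.le_nrm (inv_mem hx))
      simpa [mul_assoc] using h1)
    refine hN' (hno _ ho ?_)
    rw [show (x⁻¹ * u * x)⁻¹ * g = x⁻¹ * (u⁻¹ * (x * g)) by group]
    exact mul_mem (inv_mem hx) e
  have hinj : Function.Injective f := by
    rintro (u | x) (v | y) e <;> simp only [f, Sum.elim_inl, Sum.elim_inr] at e <;>
      rw [QuotientGroup.eq] at e
    · exact congrArg Sum.inl (Subtype.ext (h.unique_coset u.2.1 v.2.1 e u.2.2))
    · exact (hmix u y e).elim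
    · refine (hmix v x ?_).elim
      simpa [mul_assoc] using inv_mem e
    · refine congrArg Sum.inr (Subtype.ext ?_)
      by_contra hne
      refine hg ?_
      have hy : g⁻¹ * ((x : G)⁻¹ * y) * g ∈ M := by simpa [mul_assoc] using e
      have h1 := h.ti (g := g⁻¹) (mul_mem (inv_mem x.2) y.2) (by simpa using hy)
        (fun e1 => hne (inv_mul_eq_one.1 e1))
      simpa using inv_mem h1
  have h1 := Nat.card_le_card_of_injective f hinj
  rw [Nat.card_sum, add_comm, ← h.card_split, ← Subgroup.index_eq_card] at h1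
  exact absurd h.many (not_lt.2 h1)

theorem Setup.exists_not_mem (h : Setup M z) : ∃ g : G, g ∉ nrm M := by
  by_contra hc
  push Not at hc
  exact h.not_normal ⟨fun n hn g => conj_mem (hc g) hn⟩

/-- The involution in a coset outside the normalizer, in a chosen form. -/
theorem Setup.swap (h : Setup M z) {t : G} (ht : orderOf t = 2) (htN : t ∉ nrm M) {n : G}
    (hn : n ∈ nrm M) : ∃ m ∈ M, t * (n * m) * t = (n * m)⁻¹ := by
  have hg : t * n ∉ nrm M := fun h1 => htN (by simpa using mul_mem h1 (inv_mem hn))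
  obtain ⟨s, hs, hsm, -⟩ := h.exists_involution hg
  refine ⟨(t * n)⁻¹ * s, ?_, ?_⟩
  · simpa [mul_assoc] using inv_mem hsm
  · have e : n * ((t * n)⁻¹ * s) = t⁻¹ * s := by group
    rw [e, inv_of_orderOf_two ht, mul_inv_rev, inv_of_orderOf_two ht, inv_of_orderOf_two hs]
    simp [← mul_assoc, mul_self_of_orderOf_two ht]

/-- An involution of the normalizer commuting with a given involution outside it. -/
theorem Setup.exists_fixed (h : Setup M z) {t : G} (ht : orderOf t = 2) (htN : t ∉ nrm M) :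
    ∃ d : G, orderOf d = 2 ∧ d ∈ nrm M ∧ t * d = d * t := by
  obtain ⟨m, hm, e⟩ := h.swap ht htN h.mem
  have hd : orderOf (z * m) = 2 := by
    refine orderOf_two_iff.2 ⟨?_, fun e1 => ?_⟩
    · calc z * m * (z * m) = (z * m * z) * m := by group
        _ = 1 := by rw [h.z_inverts hm, inv_mul_cancel]
    · have h2 : m = z := by rw [eq_inv_of_mul_eq_one_right e1, h.z_inv]
      exact h.not_two hm (h2 ▸ h.order)
  refine ⟨z * m, hd, mul_mem h.mem (h.le_nrm hm), ?_⟩
  rw [inv_of_orderOf_two hd] at e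
  calc t * (z * m) = t * (z * m) * (t * t) := by rw [mul_self_of_orderOf_two ht, mul_one]
    _ = (t * (z * m) * t) * t := by group
    _ = _ := by rw [e]

theorem Setup.twist_mem (h : Setup M z) {u n : G} (hu : orderOf u = 2) (huN : u ∈ nrm M)
    (hn : n ∈ nrm M) : u * n * u⁻¹ * n⁻¹ ∈ M := by
  obtain ⟨m, hm, c, hc, rfl⟩ := h.decomp hn
  have ha := h.involution_mem hu huN
  obtain ⟨a, ha', rfl⟩ : ∃ a ∈ M, a * z = u :=
    ⟨u * z, ha, by rw [mul_assoc, h.zz, mul_one]⟩
  obtain ⟨hcN, hcz⟩ := mem_fix.1 hc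
  have e : a * z * (m * c) * (a * z)⁻¹ * (m * c)⁻¹ =
      a * (z * m * z⁻¹) * (c * a⁻¹ * c⁻¹) * m⁻¹ := by
    calc _ = a * (z * m * z⁻¹) * (z * c * z⁻¹) * a⁻¹ * c⁻¹ * m⁻¹ := by group
      _ = _ := by rw [← hcz]; group
  rw [e, h.inverts h.order h.mem hm]
  exact mul_mem (mul_mem (mul_mem ha' (inv_mem hm)) (conj_mem hcN (inv_mem ha'))) (inv_mem hm)

/-- `M` acts semiregularly away from its fixed point. -/
theorem Setup.semiregular (h : Setup M z) {t x : G} (ht : orderOf t = 2) (htN : t ∉ nrm M)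
    (hx : x ∈ M) (hxt : t * x * t ∈ nrm M) : x = 1 := by
  by_contra hx1
  obtain ⟨d, hd, hdN, htd⟩ := h.exists_fixed ht htN
  have htd' : Commute t d := htd
  set y := t * x * t with hy
  have hinv : d * y * d⁻¹ = y⁻¹ := by
    calc d * y * d⁻¹ = t * (d * x * d⁻¹) * t := by
          rw [hy, show d * (t * x * t) * d⁻¹ = (d * t) * x * (t * d⁻¹) by group, ← htd,
            htd'.inv_right.eq]
          group
      _ = _ := by
          rw [h.inverts hd hdN hx, hy, mul_inv_rev, mul_inv_rev, inv_of_orderOf_two ht, mul_assoc]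
  have h2 : y ^ 2 ∈ M := by
    have := inv_mem (h.twist_mem hd hdN hxt)
    rw [hinv] at this
    rw [pow_two]
    simpa [mul_inv_rev] using this
  have hyo : orderOf y = orderOf x := by
    have := orderOf_conj_eq t x
    rwa [inv_of_orderOf_two ht] at this
  obtain ⟨k, hk⟩ := exists_pow_eq_self_of_coprime
    (show Nat.Coprime 2 (orderOf y) from Nat.coprime_two_left.2 (hyo ▸ h.orderOf_odd hx))
  have hyM : y ∈ M := hk ▸ pow_mem h2 k
  refine htN (h.ti hx ?_ hx1)
  rwa [inv_of_orderOf_two ht]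

/-- An element of both point stabilizers is inverted by the involution exchanging the points. -/
theorem Setup.inverted (h : Setup M z) {t d : G} (ht : orderOf t = 2) (htN : t ∉ nrm M)
    (hd : d ∈ nrm M) (hdt : t * d * t ∈ nrm M) : t * d * t = d⁻¹ := by
  obtain ⟨m, hm, e⟩ := h.swap ht htN hd
  have hm1 : m = 1 := by
    refine h.semiregular ht htN hm ?_
    have : t * m * t = (t * d * t)⁻¹ * (t * (d * m) * t) := by
      rw [mul_inv_rev, mul_inv_rev, inv_of_orderOf_two ht]
      calc t * m * t = t * d⁻¹ * (t * t) * d * m * t := by rw [mul_self_of_orderOf_two ht]; group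
        _ = _ := by group
    rw [this, e]
    exact mul_mem (inv_mem hdt) (inv_mem (mul_mem hd (h.le_nrm hm)))
  simpa [hm1] using e

theorem Setup.stab_comm (h : Setup M z) {t d e : G} (ht : orderOf t = 2) (htN : t ∉ nrm M)
    (hd : d ∈ nrm M) (hdt : t * d * t ∈ nrm M) (he : e ∈ nrm M) (het : t * e * t ∈ nrm M) :
    d * e = e * d := by
  have h1 : t * (d * e) * t = (t * d * t) * (t * e * t) := by
    calc t * (d * e) * t = t * d * 1 * e * t := by group
      _ = _ := by rw [← mul_self_of_orderOf_two ht]; group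
  have h2 := h.inverted ht htN (mul_mem hd he) (by rw [h1]; exact mul_mem hdt het)
  rw [h1, h.inverted ht htN hd hdt, h.inverted ht htN he het] at h2
  calc d * e = ((d * e)⁻¹)⁻¹ := by group
    _ = (d⁻¹ * e⁻¹)⁻¹ := by rw [h2]
    _ = e * d := by group

theorem Setup.fix_comm (h : Setup M z) {c d : G} (hc : c ∈ fix M z) (hd : d ∈ fix M z) :
    c * d = d * c := by
  obtain ⟨g, hg⟩ := h.exists_not_mem
  obtain ⟨t, ht, -, htN⟩ := h.exists_involution hg
  have hcN := (mem_fix.1 hc).1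
  have hdN := (mem_fix.1 hd).1
  obtain ⟨m, hm, e1⟩ := h.swap ht htN hcN
  obtain ⟨n, hn, e2⟩ := h.swap ht htN hdN
  have hcm : c * m ∈ nrm M := mul_mem hcN (h.le_nrm hm)
  have hdn : d * n ∈ nrm M := mul_mem hdN (h.le_nrm hn)
  have e := h.stab_comm ht htN hcm (e1 ▸ inv_mem hcm) hdn (e2 ▸ inv_mem hdn)
  have hmem : (d * c)⁻¹ * (c * d) ∈ M := by
    have : (d * c)⁻¹ * (c * d) = (c⁻¹ * n * c) * m * n⁻¹ * (d⁻¹ * m⁻¹ * d) := by
      calc (d * c)⁻¹ * (c * d) = c⁻¹ * n * (d * n)⁻¹ * (c * m) * (d * n) * n⁻¹ * d⁻¹ * m⁻¹ * d := by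
            group
        _ = c⁻¹ * n * (d * n)⁻¹ * ((c * m) * (d * n)) * n⁻¹ * d⁻¹ * m⁻¹ * d := by group
        _ = _ := by rw [e]; group
    rw [this]
    exact mul_mem (mul_mem (mul_mem (conj_mem' hcN hn) hm) (inv_mem hn)) (conj_mem' hdN (inv_mem hm))
  exact (inv_mul_eq_one.1 (h.eq_one_of_fix hmem
    (mul_mem (inv_mem (mul_mem hd hc)) (mul_mem hc hd)))).symm

/-- An involution outside commuting with `z` inverts the part of the normalizer centralizing `z`. -/
theorem Setup.inverts_fix (h : Setup M z) {t c : G} (ht : orderOf t = 2) (htN : t ∉ nrm M)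
    (htz : t * z = z * t) (hc : c ∈ fix M z) : t * c * t = c⁻¹ := by
  obtain ⟨hcN, hcz⟩ := mem_fix.1 hc
  obtain ⟨m, hm, e⟩ := h.swap ht htN hcN
  have hcm : c * m ∈ nrm M := mul_mem hcN (h.le_nrm hm)
  have hz : t * z * t ∈ nrm M := by
    rw [htz, mul_assoc, mul_self_of_orderOf_two ht, mul_one]
    exact h.mem
  have e2 := h.stab_comm ht htN hcm (e ▸ inv_mem hcm) h.mem hz
  have hm1 : m = 1 := by
    refine h.eq_one_of_fix hm ?_
    have h3 : c * m ∈ fix M z := mem_fix.2 ⟨hcm, e2⟩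
    simpa using mul_mem (inv_mem hc) h3
  simpa [hm1] using e

/-- The involution of a coset fixed by `z` commutes with `z`. -/
theorem Setup.commute_of_fixed (h : Setup M z) {g t : G} (ht : orderOf t = 2) (htN : t ∉ nrm M)
    (htg : t⁻¹ * g ∈ M) (hg : g⁻¹ * z * g ∈ nrm M) : t * z = z * t := by
  have h1 : t * z * t ∈ nrm M := by
    have e : t * z * t = (t⁻¹ * g) * (g⁻¹ * z * g) * (t⁻¹ * g)⁻¹ := by
      rw [inv_of_orderOf_two ht]
      calc t * z * t = (t * g) * (g⁻¹ * z * g) * g⁻¹ * t := by group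
        _ = _ := by rw [mul_inv_rev, inv_of_orderOf_two ht]; group
    rw [e]
    exact mul_mem (mul_mem (h.le_nrm htg) hg) (inv_mem (h.le_nrm htg))
  have h2 := h.inverted ht htN h.mem h1
  rw [h.z_inv] at h2
  calc t * z = t * z * (t * t) := by rw [mul_self_of_orderOf_two ht, mul_one]
    _ = (t * z * t) * t := by group
    _ = z * t := by rw [h2]

/-- Outside the normalizer the centralizer of `z` consists of involutions. -/
theorem Setup.involution_of_outside (h : Setup M z) {g : G} (hgz : g * z = z * g) (hgN : g ∉ nrm M) :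
    orderOf g = 2 := by
  obtain ⟨t, ht, htg, htN⟩ := h.exists_involution hgN
  have hc : g⁻¹ * z * g = z := by rw [mul_assoc, ← hgz, inv_mul_cancel_left]
  have htz := h.commute_of_fixed ht htN htg (by rw [hc]; exact h.mem)
  have h1 : t⁻¹ * g = 1 := h.eq_one_of_fix htg (mem_fix.2 ⟨h.le_nrm htg,
    ((show Commute t z from htz).inv_left.mul_left (show Commute g z from hgz)).eq⟩)
  rwa [← inv_mul_eq_one.1 h1]

theorem Setup.exists_conj_commute (h : Setup M z) {t : G} (ht : orderOf t = 2) (htN : t ∉ nrm M) :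
    ∃ x ∈ M, orderOf (x⁻¹ * t * x) = 2 ∧ x⁻¹ * t * x ∉ nrm M ∧
      x⁻¹ * t * x * z = z * (x⁻¹ * t * x) := by
  obtain ⟨d, hd, hdN, htd⟩ := h.exists_fixed ht htN
  obtain ⟨x, hx, rfl⟩ := h.exists_conj_z hd hdN
  refine ⟨x, hx, ?_, fun h1 => htN ?_, ?_⟩
  · have := orderOf_conj_eq x⁻¹ t
    rw [inv_inv] at this
    rw [this, ht]
  · have := mul_mem (mul_mem (h.le_nrm hx) h1) (inv_mem (h.le_nrm hx))
    simpa [mul_assoc] using this
  · calc x⁻¹ * t * x * z = x⁻¹ * (t * (x * z * x⁻¹)) * x := by group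
      _ = _ := by rw [htd]; group

theorem Setup.exists_outside (h : Setup M z) :
    ∃ t : G, orderOf t = 2 ∧ t ∉ nrm M ∧ t * z = z * t := by
  obtain ⟨g, hg⟩ := h.exists_not_mem
  obtain ⟨t, ht, -, htN⟩ := h.exists_involution hg
  obtain ⟨x, -, h1, h2, h3⟩ := h.exists_conj_commute ht htN
  exact ⟨_, h1, h2, h3⟩

/-- The normalizer is a Frobenius group. -/
theorem Setup.fpf (h : Setup M z) {c x : G} (hc : c ∈ fix M z) (hc1 : c ≠ 1) (hx : x ∈ M)
    (hcx : c * x = x * c) : x = 1 := by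
  by_contra hx1
  obtain ⟨t, ht, htN, htz⟩ := h.exists_outside
  have hcN := (mem_fix.1 hc).1
  have htc := h.inverts_fix ht htN htz hc
  set y := t * x * t
  have hyN : y ∉ nrm M := fun hy => hx1 (h.semiregular ht htN hx hy)
  have hcy : y⁻¹ * c * y = c := by
    calc y⁻¹ * c * y = t⁻¹ * x⁻¹ * (t⁻¹ * c * t) * x * t := by simp only [y]; group
      _ = t * x⁻¹ * (x * c⁻¹) * t := by
          rw [inv_of_orderOf_two ht, htc, mul_assoc _ c⁻¹ x, (show Commute c x from hcx).inv_left.eq,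
            ← mul_assoc]
      _ = t * c⁻¹ * t := by group
      _ = (t * c * t)⁻¹ := by rw [mul_inv_rev, mul_inv_rev, inv_of_orderOf_two ht, mul_assoc]
      _ = c := by rw [htc, inv_inv]
  obtain ⟨s, hs, hsy, hsN⟩ := h.exists_involution hyN
  set w := s⁻¹ * y
  have e1 : s * c * s = w * c * w⁻¹ := by
    calc s * c * s = s * (y⁻¹⁻¹ * (y⁻¹ * c * y) * y⁻¹) * s := by rw [inv_inv]; group
      _ = s * (y * c * y⁻¹) * s := by rw [hcy, inv_inv]
      _ = _ := by
        rw [show w * c * w⁻¹ = s⁻¹ * (y * c * y⁻¹) * s by simp only [w]; group, inv_of_orderOf_two hs]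
  have e2 := h.inverted hs hsN hcN
    (by rw [e1]; exact mul_mem (mul_mem (h.le_nrm hsy) hcN) (inv_mem (h.le_nrm hsy)))
  rw [e1] at e2
  have h3 : c ^ 2 ∈ M := by
    have : c ^ 2 = (w * c * w⁻¹)⁻¹ * c := by rw [e2, inv_inv, pow_two]
    rw [this]
    have : (w * c * w⁻¹)⁻¹ * c = w * (c⁻¹ * w⁻¹ * c) := by group
    rw [this]
    exact mul_mem hsy (conj_mem' hcN (inv_mem hsy))
  have hcc : c * c = 1 := by
    rw [← pow_two]
    exact h.eq_one_of_fix h3 (pow_mem hc 2)
  exact h.not_commute hx hx1 (orderOf_two_iff.2 ⟨hcc, hc1⟩) hcx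

end Cfsg.Agent.Invol.TIOdd
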