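import Cfsg.Agent.Lib.Invol.TIOdd.Count
import Cfsg.Prelude

/-!
The case in which `fix M z` has order two: orders and classes.
-/

namespace Cfsg.Agent.Invol.TIOdd

open Subgroup
open scoped Pointwise

variable {G : Type*} [Group G] [Finite G] {M : Subgroup G} {z : G}

theorem Setup.sq_of_commute (h : Setup M z) (h2 : Nat.card ↥(fix M z) = 2) {g : G} (hg : g * z = z * g) :
    g * g = 1 := by
  by_cases hgN : g ∈ nrm M
  · rcases h.fix_eq_pair h2 (mem_fix.2 ⟨hgN, hg⟩) with rfl | rfl
    · exact one_mul 1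
    · exact h.zz
  · exact mul_self_of_orderOf_two (h.involution_of_outside hg hgN)

/-- The centralizer of `z` has order `2 ^ (d + 1)` and `k + 1 = 2 ^ d`. -/
theorem Setup.exists_params (h : Setup M z) (h2 : Nat.card ↥(fix M z) = 2) :
    ∃ d k : ℕ, 1 ≤ d ∧ k + 1 = 2 ^ d ∧ Nat.card ↥(Subgroup.centralizer ({z} : Set G)) = 2 ^ (d + 1) ∧
      Nat.card (Outer M z) = 2 * k ∧
      Nat.card G = 2 * Nat.card M * (1 + k * Nat.card M) ∧
      Nat.card {g : G // orderOf g = 2} = Nat.card M * (2 * k + 1) ∧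
      Nat.card {g : G // IsConj z g} * (k + 1) = Nat.card M * (1 + k * Nat.card M) := by
  haveI : Fact (Nat.Prime 2) := ⟨Nat.prime_two⟩
  set H := Subgroup.centralizer ({z} : Set G) with hH
  have hp : IsPGroup 2 H := fun g => ⟨1, Subtype.ext (by
    rw [pow_one, pow_two]
    exact h.sq_of_commute h2 (Subgroup.mem_centralizer_singleton_iff.1 g.2))⟩
  obtain ⟨e, he⟩ := IsPGroup.iff_card.1 hp
  have hc := h.card_cent
  rw [h2, ← hH, he] at hc
  obtain ⟨t, ht, htN, htz⟩ := h.exists_outside
  haveI : Nonempty (Outer M z) := ⟨⟨t, ht, htN, htz⟩⟩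
  have hpos : 0 < Nat.card (Outer M z) := Nat.card_pos
  have he2 : 2 ≤ e := by
    by_contra hlt
    have := Nat.pow_le_pow_right (show 0 < 2 by norm_num) (show e ≤ 1 by omega)
    omega
  obtain ⟨d, rfl⟩ := Nat.exists_eq_add_of_le (show 1 ≤ e by omega)
  rw [pow_add, pow_one] at hc
  have hd1 : 1 ≤ 2 ^ d := Nat.one_le_two_pow
  have hj : Nat.card (Outer M z) = 2 * (2 ^ d - 1) := by omega
  have hG : Nat.card G = 2 * Nat.card M * (1 + (2 ^ d - 1) * Nat.card M) := by
    rw [h.card_group', h2, hj]; ring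
  refine ⟨d, 2 ^ d - 1, by omega, by omega, by rw [he, add_comm], hj, hG, ?_, ?_⟩
  · rw [h.card_involutions, hj]; ring
  · have h1 : Nat.card {g : G // IsConj z g} * Nat.card H = Nat.card G := by
      rw [show Nat.card {g : G // IsConj z g} = H.index from ?_, mul_comm, Subgroup.card_mul_index]
      have hb := MulAction.index_stabilizer (ConjAct G) z
      rw [ConjAct.stabilizer_eq_centralizer] at hb
      rw [hH, show (Subgroup.centralizer ({z} : Set G)).index =
        (Subgroup.centralizer {ConjAct.toConjAct z}).index from rfl, hb, ← Nat.card_coe_set_eq]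
      exact Nat.card_congr (Equiv.subtypeEquivRight fun g => by
        show IsConj z g ↔ g ∈ MulAction.orbit (ConjAct G) z
        rw [ConjAct.mem_orbit_conjAct, isConj_comm])
    rw [he, hG, pow_add, pow_one] at h1
    rw [show 2 ^ d - 1 + 1 = 2 ^ d by omega]
    refine Nat.eq_of_mul_eq_mul_left (show 0 < 2 by norm_num) ?_
    calc 2 * (Nat.card {g : G // IsConj z g} * 2 ^ d)
        = Nat.card {g : G // IsConj z g} * (2 * 2 ^ d) := by ring
      _ = _ := by rw [h1]; ring

end Cfsg.Agent.Invol.TIOdd
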