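import Cfsg.Agent.Lib.Invol.TIOdd.Count
import Cfsg.Agent.Lib.Block.Zas.HalfBound
import Cfsg.Agent.Lib.Block.Zas.Half
import Cfsg.Agent.Lib.Block.Zas.SharpEven
import Cfsg.Prelude

/-!
The case of a single orbit: a Zassenhaus group.
-/

namespace Cfsg.Agent.Invol.TIOdd

open Subgroup MulAction
open scoped Pointwise

universe u

variable {G : Type u} [Group G] [Finite G] {M : Subgroup G} {z : G}

theorem coe_eq_coe {x y : G} : ((x : G ⧸ nrm M) = (y : G ⧸ nrm M)) ↔ x⁻¹ * y ∈ nrm M :=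
  QuotientGroup.eq

theorem smul_base {g : G} : g • ((1 : G) : G ⧸ nrm M) = ((1 : G) : G ⧸ nrm M) ↔ g ∈ nrm M := by
  rw [MulAction.Quotient.smul_coe, smul_eq_mul, mul_one, coe_eq_coe, mul_one, inv_mem_iff]

theorem smul_point {t g : G} (ht : orderOf t = 2) :
    g • (t : G ⧸ nrm M) = (t : G ⧸ nrm M) ↔ t * g * t ∈ nrm M := by
  rw [MulAction.Quotient.smul_coe, smul_eq_mul, coe_eq_coe, mul_inv_rev, inv_of_orderOf_two ht,
    ← inv_mem_iff (H := nrm M)]
  simp [mul_assoc, inv_of_orderOf_two ht]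

theorem Setup.stab_pair (h : Setup M z) {t g : G} (ht : orderOf t = 2) (htN : t ∉ nrm M)
    (htz : t * z = z * t) (hg : g ∈ nrm M) (hgt : t * g * t ∈ nrm M) : g ∈ fix M z := by
  refine mem_fix.2 ⟨hg, h.stab_comm ht htN hg hgt h.mem ?_⟩
  rw [htz, mul_assoc, mul_self_of_orderOf_two ht, mul_one]
  exact h.mem

theorem Setup.index_single (h : Setup M z) (hk : Nat.card (Outer M z) = Nat.card ↥(fix M z)) :
    (nrm M).index = Nat.card M + 1 := by
  have h1 := (nrm M).card_mul_index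
  rw [h.card_nrm, h.card_group', hk] at h1
  have h2 : 0 < Nat.card M * Nat.card ↥(fix M z) := Nat.mul_pos Nat.card_pos Nat.card_pos
  refine Nat.eq_of_mul_eq_mul_left h2 (h1.trans ?_)
  ring

theorem Setup.point_bijective (h : Setup M z) (hk : Nat.card (Outer M z) = Nat.card ↥(fix M z))
    {t : G} (ht : orderOf t = 2) (htN : t ∉ nrm M) :
    ∃ f : M → {p : G ⧸ nrm M // p ≠ ((1 : G) : G ⧸ nrm M)}, Function.Bijective f ∧
      ∀ x : M, (f x).1 = (x : G) • (t : G ⧸ nrm M) := by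
  classical
  have hne : ∀ x : M, (x : G) • (t : G ⧸ nrm M) ≠ ((1 : G) : G ⧸ nrm M) := by
    intro x e
    rw [MulAction.Quotient.smul_coe, smul_eq_mul, coe_eq_coe, mul_one, inv_mem_iff] at e
    exact htN (by simpa using mul_mem (h.le_nrm (inv_mem x.2)) e)
  refine ⟨fun x => ⟨_, hne x⟩, (Nat.bijective_iff_injective_and_card _).2 ⟨?_, ?_⟩, fun x => rfl⟩
  · intro x y e
    have e1 : (x : G) • (t : G ⧸ nrm M) = (y : G) • (t : G ⧸ nrm M) := congrArg Subtype.val e
    rw [MulAction.Quotient.smul_coe, MulAction.Quotient.smul_coe, smul_eq_mul, smul_eq_mul,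
      coe_eq_coe, mul_inv_rev, inv_of_orderOf_two ht] at e1
    have := h.semiregular ht htN (mul_mem (inv_mem x.2) y.2) (by simpa [mul_assoc] using e1)
    exact Subtype.ext (inv_mul_eq_one.1 this)
  · haveI := Fintype.ofFinite (G ⧸ nrm M)
    have hi := h.index_single hk
    rw [Subgroup.index_eq_card, Nat.card_eq_fintype_card] at hi
    rw [Nat.card_eq_fintype_card (α := {p : G ⧸ nrm M // p ≠ ((1 : G) : G ⧸ nrm M)}),
      Fintype.card_subtype_compl, Fintype.card_subtype_eq, hi, Nat.add_sub_cancel]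

/-- The frame. -/
theorem Setup.exists_frame (h : Setup M z) (hk : Nat.card (Outer M z) = Nat.card ↥(fix M z))
    {t : G} (ht : orderOf t = 2) (htN : t ∉ nrm M) (htz : t * z = z * t) :
    ∃ D : Block.Zas.Frame G (G ⧸ nrm M), D.a = ((1 : G) : G ⧸ nrm M) ∧ D.b = (t : G ⧸ nrm M) ∧
      D.F = M ∧ D.H = fix M z := by
  classical
  obtain ⟨f, hf, hfv⟩ := h.point_bijective hk ht htN
  set A := ((1 : G) : G ⧸ nrm M) with hA
  set B := (t : G ⧸ nrm M) with hB
  have hreach : ∀ p, p ≠ A → ∃ x : M, (x : G) • B = p := fun p hp => by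
    obtain ⟨x, hx⟩ := hf.2 ⟨p, hp⟩
    exact ⟨x, by rw [← hfv, hx]⟩
  have hfix : ∀ x : M, (x : G) • A = A := fun x => smul_base.2 (h.le_nrm x.2)
  have two : ∀ {x y : G ⧸ nrm M}, x ≠ y → ∃ g : G, g • x = A ∧ g • y = B := by
    intro x y hxy
    obtain ⟨g, hg⟩ := MulAction.exists_smul_eq G x A
    obtain ⟨u, hu⟩ := hreach (g • y) (fun e => hxy (smul_left_cancel g (hg.trans e.symm)))
    refine ⟨(u : G)⁻¹ * g, ?_, ?_⟩
    · rw [mul_smul, hg, inv_smul_eq_iff, hfix]
    · rw [mul_smul, inv_smul_eq_iff, hu]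
  have hAB : A ≠ B := fun e => htN (by rw [hA, hB, coe_eq_coe] at e; simpa using e)
  refine ⟨⟨A, B, M, hAB, ?_, ?_, fun u hu => hfix ⟨u, hu⟩,
    fun g hg u hu => conj_mem (smul_base.1 hg) hu, ?_⟩, rfl, rfl, rfl, ?_⟩
  · intro g x y w hxy hyw hxw hgx hgy hgw
    obtain ⟨k, hkx, hky⟩ := two hxy
    set d := k * g * k⁻¹ with hd
    have hdA : d • A = A := by rw [hd, ← hkx, mul_smul, mul_smul, inv_smul_smul, hgx]
    have hdB : d • B = B := by rw [hd, ← hky, mul_smul, mul_smul, inv_smul_smul, hgy]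
    have hdw : d • (k • w) = k • w := by rw [hd, mul_smul, mul_smul, inv_smul_smul, hgw]
    obtain ⟨u, hu⟩ := hreach (k • w) (fun e => hxw (smul_left_cancel k (hkx.trans e.symm)))
    have hu1 : (u : G) ≠ 1 := fun e => by
      rw [e, one_smul] at hu
      exact hyw (smul_left_cancel k (hky.trans hu))
    have hdc := h.stab_pair ht htN htz (smul_base.1 hdA) ((smul_point ht).1 hdB)
    set e' := (u : G)⁻¹ * d * u with he'
    have heB : e' • B = B := by
      rw [he', mul_smul, mul_smul, hu, hdw, ← hu, inv_smul_smul]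
    have hec := h.stab_pair ht htN htz
      (mul_mem (mul_mem (h.le_nrm (inv_mem u.2)) (smul_base.1 hdA)) (h.le_nrm u.2))
      ((smul_point ht).1 heB)
    have hcomm : e' * d⁻¹ = 1 := h.eq_one_of_fix (by
      rw [he', show (u : G)⁻¹ * d * u * d⁻¹ = (u : G)⁻¹ * (d * u * d⁻¹) by group]
      exact mul_mem (inv_mem u.2) (conj_mem (mem_fix.1 hdc).1 u.2))
      (mul_mem hec (inv_mem hdc))
    by_contra hg1
    refine hu1 (h.fpf hdc (fun e => hg1 ?_) u.2 ?_)
    · have : g = k⁻¹ * d * k := by rw [hd]; group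
      rw [this, e]; group
    · rw [mul_inv_eq_one, he'] at hcomm
      calc d * u = u * ((u : G)⁻¹ * d * u) := by group
        _ = u * d := by rw [hcomm]
  · intro x y z' w hxy hzw
    obtain ⟨g, hg1, hg2⟩ := two hxy
    obtain ⟨k, hk1, hk2⟩ := two hzw
    exact ⟨k⁻¹ * g, by rw [mul_smul, hg1, inv_smul_eq_iff, hk1],
      by rw [mul_smul, hg2, inv_smul_eq_iff, hk2]⟩
  · intro p r hp hr
    obtain ⟨u, hu⟩ := hreach p hp
    obtain ⟨v, hv⟩ := hreach r hr
    refine ⟨v * u⁻¹, ?_, fun w hw => ?_⟩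
    · show ((v : G) * (u : G)⁻¹) • p = r
      rw [mul_smul, inv_smul_eq_iff.2 hu.symm, hv]
    · have hw' : ((w : G) * u) • B = (v : G) • B := by rw [mul_smul, hu, hv, hw]
      have := hf.1 (a₁ := w * u) (a₂ := v) (Subtype.ext (by rw [hfv, hfv]; exact hw'))
      rw [← this, mul_inv_cancel_right]
  · show stabilizer G A ⊓ stabilizer G B = fix M z
    ext g
    rw [Subgroup.mem_inf, mem_stabilizer_iff, mem_stabilizer_iff, smul_base, smul_point ht]
    refine ⟨fun hg => h.stab_pair ht htN htz hg.1 hg.2, fun hg => ⟨(mem_fix.1 hg).1, ?_⟩⟩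
    rw [h.inverts_fix ht htN htz hg]
    exact inv_mem (mem_fix.1 hg).1

end Cfsg.Agent.Invol.TIOdd
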